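import Groth.Agent.QuadFormH2.Presentation
import Groth.Agent.QuadFormH2.Morse
import Groth.Agent.Et18.NondegIff

/-!
# Quadratic parts at a critical point
-/

set_option autoImplicit false
set_option linter.style.haveILetI false

universe u

open IsLocalRing
open scoped Matrix

namespace Groth.Agent.DegQuadH2

open QuadFormH2

variable {A : Type u} [CommRing A] {C : Type u} [CommRing C] [Algebra A C] {N : ℕ}

/-- Second order expansion along a section. -/
theorem exists_expand {x : Fin N → C} (h : IsFrame A x) (μ : C →ₐ[A] A)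
    (hker : ∀ c, μ c = 0 → c ∈ Ideal.span (Set.range x)) (hx : ∀ i, μ (x i) = 0) (F : C) :
    ∃ a : Fin N → Fin N → C,
      F = algebraMap A C (μ F) + ∑ i, algebraMap A C (μ (h.pd i F)) * x i + VanCyc.quadEval a x ∧
      VanCyc.polarMatrix (fun i j => μ (a i j)) = (Matrix.of fun i j => h.pd i (h.pd j F)).map μ := by
  classical
  let F' : C := F - ∑ i, algebraMap A C (μ (h.pd i F)) * x i
  have hpd : ∀ j, h.pd j F' = h.pd j F - algebraMap A C (μ (h.pd j F)) := fun j => by
    simp only [F', map_sub, map_sum, Derivation.leibniz, smul_eq_mul, Derivation.map_algebraMap, mul_zero, add_zero,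
      h.pd_coord, mul_ite, mul_one, Finset.sum_ite_eq, Finset.mem_univ, if_true]
  obtain ⟨a, ha, hpol⟩ := exists_quad h μ hker hx (F := F') fun j => by
    rw [hpd, map_sub, μ.commutes]; exact sub_self _
  refine ⟨a, ?_, ?_⟩
  · have hμ : μ F' = μ F := by
      simp only [F', map_sub, map_sum, map_mul, hx, mul_zero, Finset.sum_const_zero, sub_zero]
    rw [hμ] at ha
    linear_combination ha
  · rw [hpol]
    ext i j
    show μ (h.pd i (h.pd j F')) = μ (h.pd i (h.pd j F))
    rw [hpd, map_sub, Derivation.map_algebraMap, sub_zero]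

/-- The quadratic part of an expansion is the quadratic part of the singularity. -/
theorem quadEval_residue [IsLocalRing A] {L : Type u} [Field L] [Algebra A L]
    (hm : ∀ a ∈ maximalIdeal A, algebraMap A L a = 0) (Λ : C →ₐ[A] MvPowerSeries (Fin N) L)
    {f v : MvPowerSeries (Fin N) L} (hf : VanCyc.NoLowTerms f) {F : C} (hF : Λ F = v * f)
    {x : Fin N → C} (hx0 : ∀ i, MvPowerSeries.constantCoeff (Λ (x i)) = 0) {c : A} (hc : c ∈ maximalIdeal A)
    {β : Fin N → A} (hβ : ∀ i, β i ∈ maximalIdeal A) {a : Fin N → Fin N → C}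
    (ha : F = algebraMap A C c + ∑ i, algebraMap A C (β i) * x i + VanCyc.quadEval a x) (w : Fin N → L) :
    VanCyc.quadEval (fun i j => MvPowerSeries.constantCoeff (Λ (a i j)))
        ((Matrix.of fun i j => lin (Λ (x i)) j) *ᵥ w) =
      MvPowerSeries.constantCoeff v * VanCyc.quadEval (VanCyc.quadPart f) w := by
  classical
  have h0 : Λ F = VanCyc.quadEval (fun i j => Λ (a i j)) fun i => Λ (x i) := by
    have hA : ∀ r ∈ maximalIdeal A, Λ (algebraMap A C r) = 0 := fun r hr => by
      rw [Λ.commutes, IsScalarTower.algebraMap_apply A L (MvPowerSeries (Fin N) L), hm r hr, map_zero]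
    rw [ha, map_add, map_add, hA c hc, map_sum, Finset.sum_eq_zero fun i _ => by rw [map_mul, hA _ (hβ i), zero_mul],
      zero_add, zero_add]
    exact map_quadEval' Λ.toRingHom a x
  choose s hs hsc using fun i => Et18.NondegIff.line_mem_one (v := w) (hx0 i)
  obtain ⟨sf, hsf, hsfc⟩ := Et18.NondegIff.line_quad hf w
  have h1 := congrArg (Et18.NondegIff.line w) (h0.symm.trans hF)
  have h2 : Et18.NondegIff.line w (VanCyc.quadEval (fun i j => Λ (a i j)) fun i => Λ (x i)) =
      PowerSeries.X ^ 2 * VanCyc.quadEval (fun i j => Et18.NondegIff.line w (Λ (a i j))) s := by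
    rw [← Et18.NondegIff.quadEval_smul']
    refine (map_quadEval' (Et18.NondegIff.line w).toRingHom _ _).trans ?_
    congr 1
    funext i
    exact hs i
  rw [h2, map_mul, hsf, mul_left_comm] at h1
  have h3 := congrArg PowerSeries.constantCoeff
    (mul_left_cancel₀ (pow_ne_zero 2 PowerSeries.X_ne_zero) h1)
  rw [map_mul, Et18.NondegIff.constantCoeff_line, hsfc, map_quadEval'] at h3
  rw [← h3]
  congr 1
  · funext i j
    exact (Et18.NondegIff.constantCoeff_line w _).symm
  · funext i
    rw [hsc i]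
    simp only [Matrix.mulVec, dotProduct, Matrix.of_apply, lin, Et18.constantCoeff_divVar]
    exact Finset.sum_congr rfl fun j _ => mul_comm _ _

/-- The polar matrix after a linear substitution. -/
theorem polar_eq_of_eval {R : Type u} [CommRing R] (a a' : Fin N → Fin N → R) (G : Matrix (Fin N) (Fin N) R)
    (h : ∀ u, VanCyc.quadEval a' u = VanCyc.quadEval a (G *ᵥ u)) :
    VanCyc.polarMatrix a' = Gᵀ * VanCyc.polarMatrix a * G := by
  classical
  have hB : ∀ u w, (VanCyc.polarMatrix a' *ᵥ u) ⬝ᵥ w = ((Gᵀ * VanCyc.polarMatrix a * G) *ᵥ u) ⬝ᵥ w := by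
    intro u w
    have e1 := quadEval_add a' u w
    rw [h, h u, h w, Matrix.mulVec_add, quadEval_add] at e1
    have e2 : (VanCyc.polarMatrix a *ᵥ (G *ᵥ u)) ⬝ᵥ (G *ᵥ w) = (VanCyc.polarMatrix a' *ᵥ u) ⬝ᵥ w := add_left_cancel e1
    rw [← e2, Matrix.mul_assoc, ← Matrix.mulVec_mulVec, Matrix.mulVec_transpose, ← Matrix.mulVec_mulVec,
      Matrix.dotProduct_mulVec]
  ext i j
  have := hB (Pi.single j 1) (Pi.single i 1)
  simpa using this

theorem map_polar {R S : Type u} [CommRing R] [CommRing S] (φ : R →+* S) (a : Fin N → Fin N → R) :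
    VanCyc.polarMatrix (fun i j => φ (a i j)) = (VanCyc.polarMatrix a).map φ := by
  ext i j
  simp only [Matrix.map_apply, VanCyc.polarMatrix]
  split_ifs <;> simp [map_mul, map_ofNat]

/-- An adapted basis for a degenerate ordinary quadratic form. -/
theorem exists_adapted {k L : Type u} [Field k] [Field L] [IsAlgClosed L] (ι : k →+* L) {M : ℕ}
    (a : Fin (M + 1) → Fin (M + 1) → k) (ha : VanCyc.QuadOrd fun i j => ι (a i j))
    (hdet : (VanCyc.polarMatrix a).det = 0) :
    ∃ G : Matrix (Fin (M + 1)) (Fin (M + 1)) k, IsUnit G.det ∧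
      (∀ j, (Gᵀ * VanCyc.polarMatrix a * G) 0 j = 0) ∧ (∀ i, (Gᵀ * VanCyc.polarMatrix a * G) i 0 = 0) ∧
      ((Gᵀ * VanCyc.polarMatrix a * G).submatrix Fin.succ Fin.succ).det ≠ 0 ∧
      VanCyc.quadEval a (fun i => G i 0) ≠ 0 := by
  classical
  obtain ⟨c, hc, hSc⟩ := Matrix.exists_mulVec_eq_zero_iff.2 hdet
  obtain ⟨i₀, hi₀⟩ : ∃ i, c i ≠ 0 := by
    by_contra h
    push_neg at h
    exact hc (funext h)
  let σ := Equiv.swap (0 : Fin (M + 1)) i₀
  let G : Matrix (Fin (M + 1)) (Fin (M + 1)) k :=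
    Matrix.of fun i j => if j = 0 then c i else if i = σ j then 1 else 0
  let ι' : (Fin (M + 1) → k) → (Fin (M + 1) → L) := fun u i => ι (u i)
  have hSL : ∀ u, VanCyc.polarMatrix (fun i j => ι (a i j)) *ᵥ ι' u = ι' (VanCyc.polarMatrix a *ᵥ u) := fun u => by
    rw [map_polar]
    funext i
    simp only [ι', Matrix.mulVec, dotProduct, Matrix.map_apply, map_sum, map_mul]
  have hQL : ∀ u, VanCyc.quadEval (fun i j => ι (a i j)) (ι' u) = ι (VanCyc.quadEval a u) := fun u =>
    (map_quadEval' ι a u).symm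
  have hQc : VanCyc.quadEval a c ≠ 0 := fun h => hi₀ (by
    have := congrFun (ha (ι' c) (by rw [hQL, h, map_zero]) (by rw [hSL, hSc]; funext i; exact map_zero ι)) i₀
    exact (map_eq_zero_iff ι ι.injective).1 this)
  have hG : ∀ u : Fin (M + 1) → k, G *ᵥ u = u 0 • c +
      fun i => if σ i = 0 then 0 else u (σ i) := fun u => by
    funext i
    show ∑ j, G i j * u j = u 0 * c i + _
    rw [Fin.sum_univ_succ]
    congr 1
    · simp [G, mul_comm]
    · show _ = if σ i = 0 then (0 : k) else u (σ i)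
      by_cases h0 : σ i = 0
      · rw [if_pos h0]
        refine Finset.sum_eq_zero fun j _ => ?_
        have : i ≠ σ j.succ := fun h => Fin.succ_ne_zero j (by rw [← h0, h, Equiv.swap_apply_self])
        simp [G, Fin.succ_ne_zero, this]
      · rw [if_neg h0]
        obtain ⟨j₀, hj₀⟩ := Fin.exists_succ_eq.2 h0
        rw [Finset.sum_eq_single j₀]
        · rw [hj₀]
          show (if σ i = 0 then c i else if i = σ (σ i) then 1 else 0) * _ = _
          rw [if_neg h0, if_pos (Equiv.swap_apply_self _ _ i).symm, one_mul]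
        · intro j _ hj
          have : i ≠ σ j.succ := fun h => hj (Fin.succ_injective _ (by rw [hj₀, h, Equiv.swap_apply_self]))
          simp [G, Fin.succ_ne_zero, this]
        · simp
  have hσi₀ : σ i₀ = 0 := Equiv.swap_apply_right _ _
  have hGinj : Function.Injective G.mulVec := by
    intro u w huw
    have h : G *ᵥ (u - w) = 0 := by rw [Matrix.mulVec_sub]; exact sub_eq_zero.2 huw
    rw [hG] at h
    have h0 : (u - w) 0 = 0 := by
      have := congrFun h i₀
      simpa [hσi₀, hi₀] using this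
    refine sub_eq_zero.1 (funext fun j => ?_)
    by_cases hj : j = 0
    · rw [hj]; exact h0
    · have := congrFun h (σ j)
      simpa [h0, σ, Equiv.swap_apply_self, hj] using this
  have hGdet : IsUnit G.det := (Matrix.isUnit_iff_isUnit_det _).1 (Matrix.mulVec_injective_iff_isUnit.1 hGinj)
  have hG0 : (fun i => G i 0) = c := funext fun i => by simp [G]
  let S' := Gᵀ * VanCyc.polarMatrix a * G
  have hS'sym : S'ᵀ = S' := by
    simp only [S', Matrix.transpose_mul, Matrix.transpose_transpose, polarMatrix_transpose, Matrix.mul_assoc]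
  have hcol : ∀ i, S' i 0 = 0 := fun i => by
    have : S' *ᵥ Pi.single 0 1 = 0 := by
      rw [← Matrix.mulVec_mulVec, ← Matrix.mulVec_mulVec, Matrix.mulVec_single_one,
        show G.col 0 = c from hG0, hSc, Matrix.mulVec_zero]
    simpa using congrFun this i
  have hrow : ∀ j, S' 0 j = 0 := fun j => by rw [← hS'sym]; exact hcol j
  refine ⟨G, hGdet, hrow, hcol, fun h0 => ?_, by rw [hG0]; exact hQc⟩
  obtain ⟨v, hv, hSv⟩ := Matrix.exists_mulVec_eq_zero_iff.2 h0
  let u : Fin (M + 1) → k := Fin.cons 0 v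
  have hS'u : S' *ᵥ u = 0 := funext fun i => by
    refine Fin.cases ?_ (fun i' => ?_) i
    · simp [Matrix.mulVec, dotProduct, hrow]
    · show ∑ j, S' i'.succ j * u j = 0
      rw [Fin.sum_univ_succ, show u 0 = 0 from Fin.cons_zero _ _, mul_zero, zero_add]
      simpa [u, Matrix.mulVec, dotProduct, S'] using congrFun hSv i'
  let d := G *ᵥ u
  have hSd : VanCyc.polarMatrix a *ᵥ d = 0 := by
    have h1 : Gᵀ *ᵥ (VanCyc.polarMatrix a *ᵥ d) = 0 := by
      show Gᵀ *ᵥ (VanCyc.polarMatrix a *ᵥ (G *ᵥ u)) = 0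
      rw [Matrix.mulVec_mulVec, Matrix.mulVec_mulVec]; exact hS'u
    exact Matrix.eq_zero_of_mulVec_eq_zero (by rw [Matrix.det_transpose]; exact hGdet.ne_zero) h1
  obtain ⟨α, hα⟩ := IsAlgClosed.exists_pow_nat_eq (-(ι (VanCyc.quadEval a d)) / ι (VanCyc.quadEval a c)) two_pos
  let z : Fin (M + 1) → L := α • ι' c + ι' d
  have hz : z = 0 := ha z (by
    show VanCyc.quadEval _ (α • ι' c + ι' d) = 0
    rw [quadEval_add, Matrix.mulVec_smul, hSL, hSc, show ι' 0 = 0 from funext fun _ => map_zero ι, smul_zero,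
      zero_dotProduct, add_zero, show α • ι' c = fun i => α * ι' c i from rfl, Et18.NondegIff.quadEval_smul', hQL, hQL, hα,
      div_mul_cancel₀ _ ((map_ne_zero_iff ι ι.injective).2 hQc)]
    ring) (by
    show VanCyc.polarMatrix _ *ᵥ (α • ι' c + ι' d) = 0
    rw [Matrix.mulVec_add, Matrix.mulVec_smul, hSL, hSL, hSc, hSd, show ι' 0 = 0 from funext fun _ => map_zero ι,
      smul_zero, add_zero])
  have hd0 : ∀ i, d i = if σ i = 0 then 0 else u (σ i) := fun i => by
    have := congrFun (hG u) i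
    simpa [u, d] using this
  have hα0 : α = 0 := by
    have := congrFun hz i₀
    simpa [z, ι', hd0, hσi₀, hi₀] using this
  refine hv (funext fun j => ?_)
  have := congrFun hz (σ j.succ)
  simpa [z, ι', hd0, hα0, σ, Equiv.swap_apply_self, Fin.succ_ne_zero, u] using this

end Groth.Agent.DegQuadH2
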