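import Groth.Agent.QuadFormH2.Normal

/-!
# Freezing the coefficients of the non-degenerate part
-/

set_option autoImplicit false
set_option linter.style.haveILetI false

universe u

open scoped Matrix

namespace Groth.Agent.DegQuadH2

open QuadFormH2

variable {A : Type u} [CommRing A] {C : Type u} [CommRing C] [Algebra A C] {N : ℕ}

/-- Near a section, a non-degenerate quadratic form in coordinates with variable coefficients becomes,
after an étale localisation, the form with the coefficients frozen at the section. -/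
theorem exists_frozen_split {Z : Fin (N + 1) → C} (h : IsFrame A Z) (μ : C →ₐ[A] A) (hZ : ∀ i, μ (Z i) = 0)
    (a' : Fin N → Fin N → C) (hd : IsUnit (VanCyc.polarMatrix fun i j => μ (a' i j)).det) :
    ∃ (E : Type u) (_ : CommRing E) (_ : Algebra A E) (_ : Algebra C E) (_ : IsScalarTower A C E),
      Algebra.Etale C E ∧ ∃ (ε : E →ₐ[A] A), (∀ c, ε (algebraMap C E c) = μ c) ∧
      ∃ y : Fin (N + 1) → E, IsFrame A y ∧ (∀ i, ε (y i) = 0) ∧ y 0 = algebraMap C E (Z 0) ∧
        VanCyc.quadEval (fun i j => algebraMap A E (μ (a' i j))) (fun i => y i.succ) =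
          algebraMap C E (VanCyc.quadEval a' fun i => Z i.succ) := by
  classical
  let x : Fin N → C := fun i => Z i.succ
  have hx : ∀ i, μ (x i) = 0 := fun i => hZ i.succ
  let ι := {p : Fin N × Fin N // p.1 ≤ p.2}
  let a : Fin N → Fin N → A := fun i j => μ (a' i j)
  let S : Matrix (Fin N) (Fin N) A := VanCyc.polarMatrix a
  let P := MvPolynomial ι C
  let α : A →+* P := algebraMap A P
  let U : Matrix (Fin N) (Fin N) P := Matrix.of fun i j => if hij : i ≤ j then MvPolynomial.X ⟨(i, j), hij⟩ else 0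
  let V : Matrix (Fin N) (Fin N) P := S⁻¹.map α * U
  let d : Fin N → Fin N → P := fun i j => ∑ k, ∑ l, if k ≤ l then α (a k l) * V k i * V l j else 0
  let δ : Fin N → Fin N → C := fun i j => a' i j - algebraMap A C (a i j)
  let g : ι → P := fun κ => U κ.1.1 κ.1.2 + tri d κ.1.1 κ.1.2 - algebraMap C P (δ κ.1.1 κ.1.2)
  have hP : IsFrame C (fun κ : ι => (MvPolynomial.X κ : P)) := by
    show (MvPolynomial.aeval (R := C) fun κ : ι => (MvPolynomial.X κ : P)).toRingHom.Etale
    rw [show (MvPolynomial.aeval (R := C) fun κ : ι => (MvPolynomial.X κ : P)) = AlgHom.id C P from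
      MvPolynomial.algHom_ext fun κ => MvPolynomial.aeval_X _ κ]
    exact RingHom.Etale.of_bijective Function.bijective_id
  let I : Ideal P := Ideal.span (Set.range fun κ : ι => (MvPolynomial.X κ : P))
  have hU : ∀ i j, U i j ∈ I := fun i j => by
    simp only [U, Matrix.of_apply]
    split_ifs with hij
    · exact Ideal.subset_span (Set.mem_range_self (f := fun κ : ι => (MvPolynomial.X κ : P)) ⟨(i, j), hij⟩)
    · exact zero_mem _
  have hV : ∀ i j, V i j ∈ I := fun i j => by
    show (∑ k, S⁻¹.map α i k * U k j) ∈ I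
    exact Ideal.sum_mem _ fun k _ => Ideal.mul_mem_left _ _ (hU k j)
  have hdI : ∀ i j, d i j ∈ I ^ 2 := fun i j => Ideal.sum_mem _ fun k _ => Ideal.sum_mem _ fun l _ => by
    split_ifs
    · rw [mul_assoc, pow_two]; exact Ideal.mul_mem_left _ _ (Ideal.mul_mem_mul (hV k i) (hV l j))
    · exact zero_mem _
  have htI : ∀ i j, tri d i j ∈ I ^ 2 := fun i j => by
    unfold tri; split_ifs
    · exact hdI i i
    · exact add_mem (hdI i j) (hdI j i)
    · exact zero_mem _
  -- the point
  let ε₀ : P →ₐ[A] A :=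
    { MvPolynomial.eval₂Hom μ.toRingHom (fun _ => (0 : A)) with
      commutes' := fun r => by
        show MvPolynomial.eval₂Hom μ.toRingHom (fun _ => (0 : A)) (MvPolynomial.C (algebraMap A C r)) = _
        rw [MvPolynomial.eval₂Hom_C]
        exact μ.commutes r }
  have hε₀C : ∀ c, ε₀ (algebraMap C P c) = μ c := fun c => MvPolynomial.eval₂Hom_C _ _ c
  have hε₀I : ∀ p ∈ I, ε₀ p = 0 := fun p hp => by
    have : I ≤ RingHom.ker ε₀ := Ideal.span_le.2 fun _ ⟨κ, hκ⟩ => hκ ▸ MvPolynomial.eval₂Hom_X' _ _ κ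
    exact this hp
  have hε₀α : ∀ r, ε₀ (α r) = r := fun r => ε₀.commutes r
  have hε₀g : ∀ κ, ε₀ (g κ) = 0 := fun κ => by
    simp only [g, map_sub, map_add, hε₀I _ (hU _ _), hε₀I _ (Ideal.pow_le_self two_ne_zero (htI _ _)), hε₀C, δ,
      μ.commutes, add_zero, zero_sub, neg_eq_zero]
    exact sub_self _
  let Jac : P := (Matrix.of fun κ κ' => hP.pd κ (g κ')).det
  have hJac : ε₀ Jac = 1 := by
    show ε₀.toRingHom _ = 1
    rw [RingHom.map_det, ← Matrix.det_one (R := A) (n := ι)]
    congr 1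
    ext κ κ'
    have hUX : U κ'.1.1 κ'.1.2 = MvPolynomial.X κ' := by
      simp only [U, Matrix.of_apply, dif_pos κ'.2]
      rfl
    simp only [RingHom.mapMatrix_apply, Matrix.map_apply, Matrix.of_apply, g, map_sub, map_add, hUX, hP.pd_coord,
      Derivation.map_algebraMap, sub_zero]
    rw [show ε₀.toRingHom (hP.pd κ (tri d κ'.1.1 κ'.1.2)) = 0 from hε₀I _ (derivation_mem_of_sq _ I (htI _ _))]
    rw [Matrix.one_apply, show hP.pd κ (algebraMap C P (δ κ'.1.1 κ'.1.2)) = 0 from Derivation.map_algebraMap _ _,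
      map_zero, sub_zero, add_zero]
    split_ifs <;> simp
  let P₁ := Localization.Away Jac
  haveI : Algebra.Etale P P₁ := Algebra.Etale.of_isLocalizationAway Jac
  have hP₁ : IsFrame C fun κ : ι => algebraMap P P₁ (MvPolynomial.X κ) := hP.map
  let g₁ : ι → P₁ := fun κ => algebraMap P P₁ (g κ)
  have hg₁ : IsFrame C g₁ := hP₁.change (by
    have : (Matrix.of fun κ κ' => hP₁.pd κ (g₁ κ')) =
        (Matrix.of fun κ κ' => hP.pd κ (g κ')).map (algebraMap P P₁) := by
      ext κ κ'
      exact hP.pd_map hP₁ (fun _ => rfl) κ (g κ')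
    rw [this, ← RingHom.mapMatrix_apply, ← RingHom.map_det]
    exact IsLocalization.Away.algebraMap_isUnit Jac)
  let E₀ := P₁ ⧸ Ideal.span (Set.range g₁)
  haveI : Algebra.Etale C E₀ := hg₁.etale_quotient
  have hJu : IsUnit (ε₀ Jac) := by rw [hJac]; exact isUnit_one
  let ε₁ : P₁ →ₐ[A] A := IsLocalization.Away.liftAlgHom Jac (f := ε₀) hJu
  have hε₁ : ∀ p, ε₁ (algebraMap P P₁ p) = ε₀ p := fun p => IsLocalization.Away.lift_eq (g := ε₀.toRingHom) Jac hJu p
  let ε₂ : E₀ →ₐ[A] A := Ideal.Quotient.liftₐ _ ε₁ fun z hz => by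
    have : Ideal.span (Set.range g₁) ≤ RingHom.ker ε₁ := Ideal.span_le.2 fun _ ⟨κ, hκ⟩ => hκ ▸ ((hε₁ _).trans (hε₀g κ))
    exact this hz
  let π : P →+* E₀ := (Ideal.Quotient.mk _).comp (algebraMap P P₁)
  have hεπ : ∀ p, ε₂ (π p) = ε₀ p := hε₁
  have hπC : ∀ c, π (algebraMap C P c) = algebraMap C E₀ c := fun c => by
    show Ideal.Quotient.mk _ (algebraMap P P₁ (algebraMap C P c)) = _
    rw [← IsScalarTower.algebraMap_apply]
    rfl
  have hπA : ∀ r, π (α r) = algebraMap A E₀ r := fun r => by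
    show π (algebraMap A P r) = _
    rw [IsScalarTower.algebraMap_apply A C P, hπC, ← IsScalarTower.algebraMap_apply]
  have hπg : ∀ κ, π (g κ) = 0 := fun κ =>
    Ideal.Quotient.eq_zero_iff_mem.2 (Ideal.subset_span (Set.mem_range_self (f := g₁) κ))
  -- the identity
  let x₀ : Fin N → P := fun i => algebraMap C P (x i)
  let αS : Matrix (Fin N) (Fin N) P := VanCyc.polarMatrix fun i j => α (a i j)
  have hαS : αS = S.map α := by
    ext i j
    simp only [αS, S, Matrix.map_apply, VanCyc.polarMatrix]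
    split_ifs <;> simp [map_mul, map_ofNat]
  have hSV : αS * V = U := by
    rw [hαS, ← Matrix.mul_assoc, ← Matrix.map_mul, Matrix.mul_nonsing_inv S hd, Matrix.map_one α (map_zero α) (map_one α),
      Matrix.one_mul]
  let y₀ : Fin N → P := x₀ + V *ᵥ x₀
  have hkey : VanCyc.quadEval (fun i j => α (a i j)) y₀ =
      VanCyc.quadEval (fun i j => α (a i j) + (U i j + tri d i j)) x₀ := by
    rw [quadEval_add, quadEval_mulVec, quadEval_add_table, quadEval_add_table, add_assoc,
      add_comm (VanCyc.quadEval U x₀)]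
    congr 2
    show (αS *ᵥ x₀) ⬝ᵥ (V *ᵥ x₀) = _
    conv_lhs => rw [show αS = αSᵀ from (polarMatrix_transpose _).symm, Matrix.mulVec_transpose,
      ← Matrix.dotProduct_mulVec, Matrix.mulVec_mulVec, hSV]
    simp only [dotProduct, Matrix.mulVec, Finset.mul_sum, VanCyc.quadEval]
    refine Finset.sum_congr rfl fun i _ => Finset.sum_congr rfl fun j _ => ?_
    by_cases hij : i ≤ j
    · rw [if_pos hij]; ring
    · rw [if_neg hij, show U i j = 0 by simp only [U, Matrix.of_apply, dif_neg hij], zero_mul, mul_zero]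
  have hfin : VanCyc.quadEval (fun i j => algebraMap A E₀ (a i j)) (fun i => π (y₀ i)) =
      algebraMap C E₀ (VanCyc.quadEval a' x) := by
    have h1 := congrArg π hkey
    rw [map_quadEval', map_quadEval'] at h1
    simp only [hπA] at h1
    rw [h1, map_quadEval']
    refine (quadEval_congr (a' := fun i j => algebraMap C E₀ (a' i j)) (fun i j hij => ?_) _).trans ?_
    · show _ = algebraMap C E₀ (a' i j)
      have h2 := hπg ⟨(i, j), hij⟩
      simp only [g, map_sub, map_add, hπC, δ, ← IsScalarTower.algebraMap_apply] at h2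
      rw [map_add, map_add, hπA]
      linear_combination h2
    · congr 1
  -- the coordinates
  have hxE : IsFrame A fun i => algebraMap C E₀ (Z i) := h.map
  let y₁ : Fin (N + 1) → E₀ := Fin.cons (algebraMap C E₀ (Z 0)) fun i => π (y₀ i)
  let Jy : E₀ := (Matrix.of fun i j => hxE.pd i (y₁ j)).det
  have hεZ : ∀ i, ε₂ (algebraMap C E₀ (Z i)) = 0 := fun i => by rw [← hπC, hεπ, hε₀C, hZ]
  have hεV : ∀ i j, ε₂ (π (V i j)) = 0 := fun i j => by rw [hεπ]; exact hε₀I _ (hV i j)
  have hy₁ : ∀ j : Fin N, y₁ j.succ = algebraMap C E₀ (x j) + ∑ k, π (V j k) * algebraMap C E₀ (x k) := fun j => by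
    simp only [y₁, Fin.cons_succ]
    show π (x₀ j + ∑ k, V j k * x₀ k) = _
    simp only [x₀, map_add, map_sum, map_mul, hπC]
  have hεy₁ : ∀ i, ε₂ (y₁ i) = 0 := Fin.cases (hεZ 0) fun j => by
    rw [hy₁, map_add, map_sum, hεZ j.succ, zero_add]
    exact Finset.sum_eq_zero fun k _ => by rw [map_mul, hεZ k.succ, mul_zero]
  have hJy : ε₂ Jy = 1 := by
    show ε₂.toRingHom _ = 1
    rw [RingHom.map_det, ← Matrix.det_one (R := A) (n := Fin (N + 1))]
    congr 1
    ext i j
    simp only [RingHom.mapMatrix_apply, Matrix.map_apply, Matrix.of_apply]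
    refine Fin.cases ?_ (fun j => ?_) j
    · show ε₂ (hxE.pd i (algebraMap C E₀ (Z 0))) = _
      rw [hxE.pd_coord, apply_ite ε₂, map_one, map_zero, Matrix.one_apply]
    simp only [hy₁, map_add, map_sum, Derivation.leibniz, smul_eq_mul, x, hxE.pd_coord]
    show ε₂ _ + _ = _
    simp only [AlgHom.toRingHom_eq_coe, RingHom.coe_coe, map_mul, map_add, hεV, hεZ, zero_mul, add_zero,
      Finset.sum_const_zero, apply_ite ε₂, map_one, map_zero, Matrix.one_apply]
  let E := Localization.Away Jy
  haveI : Algebra.Etale E₀ E := Algebra.Etale.of_isLocalizationAway Jy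
  haveI : Algebra.Etale C E := Algebra.Etale.comp C E₀ E
  have hxE' : IsFrame A fun i => algebraMap E₀ E (algebraMap C E₀ (Z i)) := hxE.map
  have hy : IsFrame A fun i => algebraMap E₀ E (y₁ i) := hxE'.change (by
    have : (Matrix.of fun i j => hxE'.pd i (algebraMap E₀ E (y₁ j))) =
        (Matrix.of fun i j => hxE.pd i (y₁ j)).map (algebraMap E₀ E) := by
      ext i j
      exact hxE.pd_map hxE' (fun _ => rfl) i (y₁ j)
    rw [this, ← RingHom.mapMatrix_apply, ← RingHom.map_det]
    exact IsLocalization.Away.algebraMap_isUnit Jy)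
  have hJyu : IsUnit (ε₂ Jy) := by rw [hJy]; exact isUnit_one
  let ε : E →ₐ[A] A := IsLocalization.Away.liftAlgHom Jy (f := ε₂) hJyu
  have hε : ∀ z, ε (algebraMap E₀ E z) = ε₂ z := fun z => IsLocalization.Away.lift_eq (g := ε₂.toRingHom) Jy hJyu z
  refine ⟨E, inferInstance, inferInstance, inferInstance, inferInstance, inferInstance, ε, fun c => ?_,
    fun i => algebraMap E₀ E (y₁ i), hy, fun i => (hε _).trans (hεy₁ i), (IsScalarTower.algebraMap_apply C E₀ E _).symm, ?_⟩
  · rw [IsScalarTower.algebraMap_apply C E₀ E, hε, ← hπC, hεπ, hε₀C]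
  · rw [IsScalarTower.algebraMap_apply C E₀ E, ← hfin, map_quadEval']
    simp only [← IsScalarTower.algebraMap_apply]
    rfl

end Groth.Agent.DegQuadH2
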