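import Groth.Agent.QuadFormH2.Morse
import Mathlib.RingTheory.Smooth.Basic
import Mathlib.RingTheory.Polynomial.Quotient
import Mathlib.RingTheory.Etale.Basic

/-!
# Second order curves along an étale coordinate, localisation at sections
-/

set_option autoImplicit false
set_option linter.style.haveILetI false

universe u

open IsLocalRing

namespace Groth.Agent.DegQuadH2

open QuadFormH2

variable {A : Type u} [CommRing A] {C : Type u} [CommRing C] [Algebra A C] {N : ℕ}

/-- A section of an étale algebra through a rational point. -/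
theorem exists_lift_point [HenselianLocalRing A] {x : Fin N → C} (h : IsFrame A x) (χ : C →ₐ[A] ResidueField A)
    (hx : ∀ i, χ (x i) = 0) : ∃ μ : C →ₐ[A] A, (∀ i, μ (x i) = 0) ∧ ∀ c, residue A (μ c) = χ c := by
  haveI : Algebra.Etale A (C ⧸ Ideal.span (Set.range x)) := h.etale_quotient
  let σ : (C ⧸ Ideal.span (Set.range x)) →ₐ[A] A ⧸ maximalIdeal A := Ideal.Quotient.liftₐ _ χ fun z hz => by
    have : Ideal.span (Set.range x) ≤ RingHom.ker χ := Ideal.span_le.2 fun _ ⟨i, hi⟩ => hi ▸ hx i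
    exact this hz
  obtain ⟨τ, hτ⟩ := HenselLib.exists_lift_of_etale (maximalIdeal A) σ
  refine ⟨τ.comp (Ideal.Quotient.mkₐ A _), fun i => ?_, fun c => AlgHom.congr_fun hτ _⟩
  show τ (Ideal.Quotient.mk _ (x i)) = 0
  rw [Ideal.Quotient.eq_zero_iff_mem.2 (Ideal.subset_span (Set.mem_range_self (f := x) i)), map_zero]

/-- Generators of the kernel of a section persist under localisation. -/
theorem ker_span_away {w : C} {C' : Type u} [CommRing C'] [Algebra C C'] [Algebra A C'] [IsScalarTower A C C']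
    [IsLocalization.Away w C'] (μ : C →ₐ[A] A) (μ' : C' →ₐ[A] A) (hμ : ∀ c, μ' (algebraMap C C' c) = μ c)
    {ι : Type} (Z : ι → C) (hZ : ∀ c, μ c = 0 → c ∈ Ideal.span (Set.range Z)) :
    ∀ x, μ' x = 0 → x ∈ Ideal.span (Set.range fun i => algebraMap C C' (Z i)) := by
  intro x hx
  obtain ⟨z, ⟨_, j, rfl⟩, rfl⟩ := IsLocalization.exists_mk'_eq (Submonoid.powers w) x
  have hz : μ z = 0 := by
    have h1 := congrArg μ' (IsLocalization.mk'_spec C' z (⟨w ^ j, j, rfl⟩ : Submonoid.powers w))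
    rw [map_mul, hx, zero_mul, hμ] at h1
    exact h1.symm
  rw [IsLocalization.mk'_eq_mul_mk'_one]
  refine Ideal.mul_mem_right _ _ ?_
  have := Ideal.mem_map_of_mem (algebraMap C C') (hZ z hz)
  rwa [Ideal.map_span, ← Set.range_comp] at this

/-- The second order curve along the first coordinate. -/
theorem exists_curve [IsLocalRing A] {Z : Fin (N + 1) → C} (h : IsFrame A Z) (χ : C →ₐ[A] ResidueField A)
    (hZ : ∀ i, χ (Z i) = 0) :
    ∃ (R : Type u) (_ : CommRing R) (_ : Algebra (ResidueField A) R) (ζ : C →+* R) (T : R)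
      (c₀ : R →+* ResidueField A) (c₁ c₂ : R →ₗ[ResidueField A] ResidueField A),
      (∀ r, c₀ (algebraMap (ResidueField A) R r) = r) ∧ (∀ a, ζ (algebraMap A C a) = algebraMap _ R (residue A a)) ∧
      ζ (Z 0) = T ∧ (∀ i : Fin N, ζ (Z i.succ) = 0) ∧ (∀ c, c₀ (ζ c) = χ c) ∧ (∀ c, χ c = 0 → ∃ p, ζ c = T * p) ∧
      c₀ T = 0 ∧ (∀ e, c₁ (T * e) = c₀ e) ∧ (∀ e, c₁ (T ^ 2 * e) = 0) ∧ ∀ e, c₂ (T ^ 2 * e) = c₀ e := by
  classical
  let k := ResidueField A
  let I : Ideal (Polynomial k) := Ideal.span {Polynomial.X ^ 3}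
  let R := Polynomial k ⧸ I
  let T : R := Ideal.Quotient.mk I Polynomial.X
  have hI : ∀ p ∈ I, ∀ d < 3, Polynomial.coeff p d = 0 := fun p hp d hd => by
    obtain ⟨r, rfl⟩ := Ideal.mem_span_singleton'.1 hp
    rw [mul_comm, Polynomial.coeff_X_pow_mul', if_neg (by omega)]
  let c₀ : R →+* k := Ideal.Quotient.lift I Polynomial.constantCoeff fun p hp => hI p hp 0 (by omega)
  let cf : ∀ d, d < 3 → R →ₗ[k] k := fun d hd =>
    (I.restrictScalars k).liftQ (Polynomial.lcoeff k d) (fun p hp => hI p hp d hd)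
      |>.comp (Submodule.Quotient.restrictScalarsEquiv k I).symm.toLinearMap
  let c₁ : R →ₗ[k] k := cf 1 (by omega)
  let c₂ : R →ₗ[k] k := cf 2 (by omega)
  have hcf : ∀ d hd p, cf d hd (Ideal.Quotient.mk I p) = Polynomial.coeff p d := fun d hd p => rfl
  -- the lift
  let S := MvPolynomial (Fin (N + 1)) A
  letI : Algebra S C := (MvPolynomial.aeval (R := A) Z).toRingHom.toAlgebra
  haveI : Algebra.Etale S C := h
  let θ : S →+* R := MvPolynomial.eval₂Hom ((algebraMap k R).comp (residue A)) (Fin.cases T fun _ => 0)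
  letI : Algebra S R := θ.toAlgebra
  let IT : Ideal R := Ideal.span {T}
  have hIT : IsNilpotent IT := ⟨3, by
    rw [Ideal.span_singleton_pow]
    refine Ideal.span_singleton_eq_bot.2 ?_
    show Ideal.Quotient.mk I Polynomial.X ^ 3 = 0
    rw [← map_pow, Ideal.Quotient.eq_zero_iff_mem]
    exact Ideal.mem_span_singleton_self _⟩
  have hθX : ∀ i, θ (MvPolynomial.X i) = Fin.cases (motive := fun _ => R) T (fun _ => 0) i := fun i => MvPolynomial.eval₂Hom_X' _ _ i
  have hθC : ∀ a, θ (MvPolynomial.C a) = algebraMap k R (residue A a) := fun a => MvPolynomial.eval₂Hom_C _ _ a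
  let χ₁ : C →ₐ[S] R ⧸ IT :=
    { ((Ideal.Quotient.mk IT).comp (algebraMap k R)).comp χ.toRingHom with
      commutes' := fun s => by
        refine RingHom.congr_fun (show (((Ideal.Quotient.mk IT).comp (algebraMap k R)).comp χ.toRingHom).comp
          (algebraMap S C) = (Ideal.Quotient.mk IT).comp θ from MvPolynomial.ringHom_ext (fun a => ?_) fun i => ?_) s
        · show Ideal.Quotient.mk IT (algebraMap k R (χ (MvPolynomial.aeval Z (MvPolynomial.C a)))) = Ideal.Quotient.mk IT (θ _)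
          rw [MvPolynomial.aeval_C, χ.commutes, hθC]
          rfl
        · show Ideal.Quotient.mk IT (algebraMap k R (χ (MvPolynomial.aeval Z (MvPolynomial.X i)))) = Ideal.Quotient.mk IT (θ _)
          rw [MvPolynomial.aeval_X, hZ, map_zero, map_zero, hθX, eq_comm, Ideal.Quotient.eq_zero_iff_mem]
          refine Fin.cases ?_ (fun _ => ?_) i
          · exact Ideal.mem_span_singleton_self _
          · exact zero_mem _ }
  let ζ : C →ₐ[S] R := Algebra.FormallySmooth.lift IT hIT χ₁
  have hζIT : ∀ c, ζ c - algebraMap k R (χ c) ∈ IT := fun c =>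
    Ideal.Quotient.eq.1 (AlgHom.congr_fun (Algebra.FormallySmooth.comp_lift IT hIT χ₁) c)
  have hZi : ∀ i, Z i = algebraMap S C (MvPolynomial.X i) := fun i => (MvPolynomial.aeval_X Z i).symm
  refine ⟨R, inferInstance, inferInstance, ζ.toRingHom, T, c₀, c₁, c₂, fun r => ?_, fun a => ?_, ?_, fun i => ?_,
    fun c => ?_, fun c hc => ?_, ?_, fun e => ?_, fun e => ?_, fun e => ?_⟩
  · exact Polynomial.coeff_C_zero
  · show ζ (algebraMap A C a) = _
    rw [show algebraMap A C a = algebraMap S C (MvPolynomial.C a) from (MvPolynomial.aeval_C Z a).symm, ζ.commutes]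
    exact hθC a
  · show ζ (Z 0) = T
    rw [hZi, ζ.commutes]; exact hθX 0
  · show ζ (Z i.succ) = 0
    rw [hZi, ζ.commutes]; exact hθX i.succ
  · obtain ⟨p, hp⟩ := Ideal.mem_span_singleton'.1 (hζIT c)
    have h2 := congrArg c₀ hp
    rw [map_mul, map_sub, show c₀ T = 0 from Polynomial.coeff_X_zero, mul_zero,
      show c₀ (algebraMap k R (χ c)) = χ c from Polynomial.coeff_C_zero, eq_comm, sub_eq_zero] at h2
    exact h2
  · obtain ⟨p, hp⟩ := Ideal.mem_span_singleton'.1 (hζIT c)
    refine ⟨p, ?_⟩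
    show ζ c = _
    rw [hc, map_zero, sub_zero] at hp
    rw [← hp, mul_comm]
  · exact Polynomial.coeff_X_zero
  · obtain ⟨e, rfl⟩ := Ideal.Quotient.mk_surjective e
    show c₁ (Ideal.Quotient.mk I Polynomial.X * Ideal.Quotient.mk I e) = Polynomial.coeff e 0
    rw [← map_mul, hcf 1 (by omega), Polynomial.coeff_X_mul]
  · obtain ⟨e, rfl⟩ := Ideal.Quotient.mk_surjective e
    show c₁ (Ideal.Quotient.mk I Polynomial.X ^ 2 * Ideal.Quotient.mk I e) = 0
    rw [← map_pow, ← map_mul, hcf 1 (by omega), Polynomial.coeff_X_pow_mul', if_neg (by omega)]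
  · obtain ⟨e, rfl⟩ := Ideal.Quotient.mk_surjective e
    show c₂ (Ideal.Quotient.mk I Polynomial.X ^ 2 * Ideal.Quotient.mk I e) = Polynomial.coeff e 0
    rw [← map_pow, ← map_mul, hcf 2 (by omega), Polynomial.coeff_X_pow_mul', if_pos le_rfl]

/-- Second derivatives of a quadratic expression in some of the coordinates. -/
theorem map_pd_pd_quad {Z : Fin (N + 1) → C} (h : IsFrame A Z) (μ : C →ₐ[A] A) (hμ : ∀ i, μ (Z i) = 0)
    (d : Fin N → Fin N → C) (a b : Fin N) :
    μ (h.pd a.succ (h.pd b.succ (∑ i, ∑ j, d i j * Z i.succ * Z j.succ))) = μ (d a b) + μ (d b a) := by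
  classical
  simp only [map_sum, map_add, map_mul, Derivation.leibniz, smul_eq_mul, h.pd_coord, Fin.succ_inj, hμ, mul_zero,
    zero_mul, zero_add, add_zero, mul_ite, ite_mul, mul_one, one_mul, apply_ite (h.pd a.succ), apply_ite μ, map_zero,
    Derivation.map_one_eq_zero]
  simp only [Finset.sum_add_distrib, Finset.sum_ite_eq, Finset.sum_ite_eq', Finset.mem_univ, if_true, ite_add_ite,
    add_zero, zero_add]

end Groth.Agent.DegQuadH2
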