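import Groth.Agent.DegQuadH2.Expand
import Groth.Agent.DegQuadH2.Tools
import Groth.Agent.HenselLib.QFLocal
import Groth.Agent.QuadLib.HalfDisc
import Mathlib.RingTheory.ZariskisMainTheorem

/-!
# Splitting off the radical of a degenerate quadratic critical point
-/

set_option autoImplicit false
set_option linter.style.haveILetI false

universe u

open IsLocalRing
open scoped Matrix

namespace Groth.Agent.DegQuadH2

open QuadFormH2

/-- Evaluation at the first basis vector. -/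
theorem quadEval_single {R : Type*} [CommRing R] {n : ℕ} (a : Fin (n + 1) → Fin (n + 1) → R) :
    VanCyc.quadEval a (Pi.single 0 1) = a 0 0 := by
  unfold VanCyc.quadEval
  rw [Finset.sum_eq_single 0 (fun b _ hb => Finset.sum_eq_zero fun c _ => by simp [hb]) (by simp),
    Finset.sum_eq_single 0 (fun b _ hb => by simp [hb]) (by simp)]
  simp

/-- The localisation away from an element, as an abstract algebra. -/
theorem exists_away (A : Type u) [CommRing A] {C : Type u} [CommRing C] [Algebra A C] (w : C) :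
    ∃ (X : Type u) (_ : CommRing X) (_ : Algebra C X) (_ : Algebra A X) (_ : IsScalarTower A C X),
      IsLocalization.Away w X :=
  ⟨Localization.Away w, inferInstance, inferInstance, inferInstance, inferInstance, inferInstance⟩

/-- In residue characteristic two an ordinary critical point in an odd number of variables splits
into a monic quadratic polynomial of one coordinate plus a non-degenerate form in the others. -/
theorem exists_split {A : Type u} [CommRing A] [HenselianLocalRing A] (h2 : (2 : ResidueField A) = 0) {M : ℕ}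
    (hM : ¬ 2 ∣ M + 1) {C : Type u} [CommRing C] [Algebra A C] {t : Fin (M + 1) → C} (ht : IsFrame A t)
    (χ : C →ₐ[A] ResidueField A) {F : C} (hgrad : ∀ i, χ (ht.pd i F) = 0) (hF : χ F = 0)
    {L : Type u} [Field L] [IsAlgClosed L] [Algebra (ResidueField A) L] [Algebra A L]
    [IsScalarTower A (ResidueField A) L]
    (Λ : C →ₐ[A] MvPowerSeries (Fin (M + 1)) L) {f v : MvPowerSeries (Fin (M + 1)) L}
    (hf : VanCyc.OrdQuadSeries f) (hΛF : Λ F = v * f) (hv : MvPowerSeries.constantCoeff v ≠ 0)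
    (hcc : ∀ c, χ c ≠ 0 ↔ MvPowerSeries.constantCoeff (Λ c) ≠ 0)
    (hJ : IsUnit (Matrix.of fun i j => lin (Λ (t i)) j).det) :
    ∃ (C' : Type u) (_ : CommRing C') (_ : Algebra C C') (_ : Algebra A C') (_ : IsScalarTower A C C'),
      Algebra.Etale C C' ∧ ∃ (μ : C' →ₐ[A] A), (∀ c, residue A (μ (algebraMap C C' c)) = χ c) ∧
      ∃ (Z : Fin (M + 1) → C') (_ : IsFrame A Z), (∀ i, μ (Z i) = 0) ∧
      ∃ (u : C') (b c : A) (d : Fin M → Fin M → C'), IsUnit (μ u) ∧ b ∈ maximalIdeal A ∧ c ∈ maximalIdeal A ∧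
        IsUnit (VanCyc.polarMatrix fun i j => μ (d i j)).det ∧
        u * algebraMap C C' F = Z 0 ^ 2 + algebraMap A C' b * Z 0 + algebraMap A C' c +
          VanCyc.quadEval d (fun i => Z i.succ) := by
  classical
  let k := ResidueField A
  let ι : k →+* L := algebraMap k L
  let cc : MvPowerSeries (Fin (M + 1)) L →+* L := MvPowerSeries.constantCoeff
  have hres : ∀ a : A, algebraMap A k a = residue A a := fun a => rfl
  have hmL : ∀ a ∈ maximalIdeal A, algebraMap A L a = 0 := fun a ha => by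
    rw [IsScalarTower.algebraMap_apply A k L, hres, (residue_eq_zero_iff _).2 ha, map_zero]
  have hAP : ∀ r : A, cc (algebraMap A (MvPowerSeries (Fin (M + 1)) L) r) = algebraMap A L r := fun r => by
    rw [IsScalarTower.algebraMap_apply A L (MvPowerSeries (Fin (M + 1)) L)]
    exact MvPowerSeries.constantCoeff_C _
  have hccχ : ∀ c, cc (Λ c) = ι (χ c) := fun c => by
    obtain ⟨r, hr⟩ := residue_surjective (χ c)
    have h0 : χ (c - algebraMap A C r) = 0 := by rw [map_sub, χ.commutes, hres, hr, sub_self]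
    have h1 : cc (Λ (c - algebraMap A C r)) = 0 := by
      by_contra h; exact (hcc _).2 h h0
    rw [map_sub, map_sub, Λ.commutes, hAP, sub_eq_zero, IsScalarTower.algebraMap_apply A k L, hres, hr] at h1
    exact h1
  let J : Matrix (Fin (M + 1)) (Fin (M + 1)) L := Matrix.of fun i j => lin (Λ (t i)) j
  let v0 : L := MvPowerSeries.constantCoeff v
  let q := VanCyc.quadPart f
  -- the first section and the expansion
  choose ct0 hct0 using fun i => residue_surjective (χ (t i))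
  obtain ⟨ht₀, -⟩ := ht.exists_translate ct0
  obtain ⟨μ₀, hμ₀t, hμ₀⟩ := exists_lift_point ht₀ χ fun i => by
    rw [map_sub, χ.commutes, hres, hct0, sub_self]
  have hccμ : ∀ c, ι (residue A (μ₀ c)) = cc (Λ c) := fun c => by rw [hμ₀, hccχ]
  obtain ⟨w₁, hw₁, hcent₁⟩ := exists_centred ht μ₀
  obtain ⟨C₁, _, _, _, _, _⟩ := exists_away A (C := C) w₁
  have hw₁u : IsUnit (μ₀ w₁) := by rw [hw₁]; exact isUnit_one
  let μ₁ : C₁ →ₐ[A] A := IsLocalization.Away.liftAlgHom w₁ (f := μ₀) hw₁u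
  have hμ₁ : ∀ c, μ₁ (algebraMap C C₁ c) = μ₀ c := fun c => IsLocalization.Away.lift_eq (g := μ₀.toRingHom) w₁ hw₁u c
  have hΛw₁ : IsUnit (Λ w₁) := MvPowerSeries.isUnit_iff_constantCoeff.2 (isUnit_iff_ne_zero.2 ((hcc _).1 (by
    rw [← hμ₀, hw₁, map_one]; exact one_ne_zero)))
  let Λ₁ : C₁ →ₐ[A] MvPowerSeries (Fin (M + 1)) L := IsLocalization.Away.liftAlgHom w₁ (f := Λ) hΛw₁
  have hΛ₁ : ∀ c, Λ₁ (algebraMap C C₁ c) = Λ c := fun c => IsLocalization.Away.lift_eq (g := Λ.toRingHom) w₁ hΛw₁ c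
  have hccμ₁ : ∀ x, ι (residue A (μ₁ x)) = cc (Λ₁ x) := fun x => RingHom.congr_fun
    (IsLocalization.ringHom_ext (Submonoid.powers w₁) (j := (ι.comp (residue A)).comp μ₁.toRingHom)
      (k := cc.comp Λ₁.toRingHom) (RingHom.ext fun c => by
        show ι (residue A (μ₁ (algebraMap C C₁ c))) = cc (Λ₁ (algebraMap C C₁ c))
        rw [hμ₁, hΛ₁, hccμ])) x
  obtain ⟨h₁, hker₁, hpd₁⟩ := hcent₁ C₁ μ₁ hμ₁
  let x₁ : Fin (M + 1) → C₁ := fun i => algebraMap C C₁ (t i - algebraMap A C (μ₀ (t i)))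
  have hx₁ : ∀ i, μ₁ (x₁ i) = 0 := fun i => by rw [hμ₁, map_sub, μ₀.commutes]; exact sub_self _
  obtain ⟨a₁, ha₁, hpol₁⟩ := exists_expand h₁ μ₁ hker₁ hx₁ (algebraMap C C₁ F)
  let ab : Fin (M + 1) → Fin (M + 1) → k := fun i j => residue A (μ₁ (a₁ i j))
  have hlin : ∀ (c : C) (r : A), lin (Λ (c - algebraMap A C r)) = lin (Λ c) := fun c r => by
    funext j
    simp only [lin, map_sub, Λ.commutes]
    rw [IsScalarTower.algebraMap_apply A L (MvPowerSeries (Fin (M + 1)) L),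
      show algebraMap L (MvPowerSeries (Fin (M + 1)) L) (algebraMap A L r) = MvPowerSeries.C (algebraMap A L r) from rfl,
      MvPowerSeries.coeff_C, if_neg (by simp), sub_zero]
  have hQab : ∀ w, VanCyc.quadEval (fun i j => ι (ab i j)) (J *ᵥ w) = v0 * VanCyc.quadEval q w := fun w => by
    have h := quadEval_residue hmL Λ₁ hf.1 (F := algebraMap C C₁ F) (v := v) (x := x₁) (by rw [hΛ₁]; exact hΛF)
      (fun i => by rw [← hccμ₁, hx₁, map_zero, map_zero]) (c := μ₁ (algebraMap C C₁ F))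
      (by rw [← residue_eq_zero_iff, hμ₁, hμ₀, hF])
      (β := fun i => μ₁ (h₁.pd i (algebraMap C C₁ F)))
      (fun i => by rw [← residue_eq_zero_iff, hpd₁, hμ₁, hμ₀, hgrad]) ha₁ w
    have e1 : (fun i j => cc (Λ₁ (a₁ i j))) = fun i j => ι (ab i j) := by funext i j; exact (hccμ₁ _).symm
    have e2 : (Matrix.of fun i j => lin (Λ₁ (x₁ i)) j) = J := by
      ext i j
      simp only [Matrix.of_apply, x₁, J, hΛ₁, hlin]
    rw [e2] at h
    rw [← e1]
    exact h
  have hJsurj : Function.Surjective J.mulVec := Matrix.mulVec_surjective_iff_isUnit.2 ((Matrix.isUnit_iff_isUnit_det _).2 hJ)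
  have hpolq : VanCyc.polarMatrix (fun i j => v0 * q i j) = v0 • VanCyc.polarMatrix q := by
    ext i j
    simp only [VanCyc.polarMatrix, Matrix.smul_apply, smul_eq_mul]
    split_ifs <;> ring
  have hord : VanCyc.QuadOrd fun i j => ι (ab i j) := fun u hu hSu => by
    obtain ⟨w, rfl⟩ := hJsurj u
    have h1 : VanCyc.quadEval q w = 0 := by
      have := hQab w
      rw [hu] at this
      exact (mul_eq_zero.1 this.symm).resolve_left hv
    have hp := polar_eq_of_eval (fun i j => ι (ab i j)) (fun i j => v0 * q i j) J fun u => by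
      rw [hQab]
      simp only [VanCyc.quadEval, Finset.mul_sum]
      exact Finset.sum_congr rfl fun i _ => Finset.sum_congr rfl fun j _ => by split_ifs <;> ring
    have h3 : (v0 • VanCyc.polarMatrix q) *ᵥ w = 0 := by
      rw [← hpolq, hp, ← Matrix.mulVec_mulVec, ← Matrix.mulVec_mulVec, hSu, Matrix.mulVec_zero]
    rw [Matrix.smul_mulVec, smul_eq_zero] at h3
    rw [hf.2 w h1 (h3.resolve_left hv), Matrix.mulVec_zero]
  have hdet₀ : (VanCyc.polarMatrix ab).det = 0 :=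
    QuadLib.det_eq_zero_of_odd_alternating h2 (by rw [Fintype.card_fin]; exact hM) _
      (fun i j => congrFun (congrFun (polarMatrix_transpose ab) j) i)
      (fun i => by simp [VanCyc.polarMatrix, h2])
  obtain ⟨G, hG, hrow, hcol, hminor, hQc⟩ := exists_adapted ι ab hord hdet₀
  -- adapted coordinates
  choose Gt hGt using fun i j => residue_surjective (G i j)
  have hGtm : (Matrix.of Gt).map (residue A) = G := by ext i j; exact hGt i j
  have hGtu : IsUnit (Matrix.of Gt).det := by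
    refine (residue_ne_zero_iff_isUnit _).1 ?_
    rw [RingHom.map_det, RingHom.mapMatrix_apply, hGtm]
    exact hG.ne_zero
  let H : Matrix (Fin (M + 1)) (Fin (M + 1)) A := (Matrix.of Gt)⁻¹
  let x : Fin (M + 1) → C := fun j => ∑ l, algebraMap A C (H j l) * (t l - algebraMap A C (μ₀ (t l)))
  have hpdx : ∀ i j, ht.pd i (x j) = algebraMap A C (H j i) := fun i j => by
    simp only [x, map_sum, map_sub, Derivation.leibniz, smul_eq_mul, Derivation.map_algebraMap, mul_zero, add_zero,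
      sub_zero, ht.pd_coord, mul_ite, mul_one, Finset.sum_ite_eq, Finset.mem_univ, if_true]
  have hx : IsFrame A x := ht.change (by
    have e : (Matrix.of fun i j => ht.pd i (x j)) = (algebraMap A C).mapMatrix Hᵀ := by
      ext i j; exact hpdx i j
    rw [e, ← RingHom.map_det, Matrix.det_transpose, Matrix.det_nonsing_inv]
    exact ((IsUnit.ringInverse hGtu)).map _)
  have hchange : ∀ i c, hx.pd i c = ∑ l, algebraMap A C (Gt l i) * ht.pd l c := fun i c => by
    have he := hx.derivation_ext (d := hx.pd i) (d' := ∑ l, algebraMap A C (Gt l i) • ht.pd l) fun j => by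
      rw [hx.pd_coord, ← Derivation.coeFnAddMonoidHom_apply (∑ l, _ • _), map_sum, Finset.sum_apply]
      show _ = ∑ l, algebraMap A C (Gt l i) * ht.pd l (x j)
      simp only [hpdx, ← map_mul, ← map_sum]
      rw [show ∑ l, Gt l i * H j l = (H * Matrix.of Gt) j i by
        rw [Matrix.mul_apply]; exact Finset.sum_congr rfl fun l _ => mul_comm _ _,
        Matrix.nonsing_inv_mul _ hGtu, Matrix.one_apply]
      split_ifs with e e' <;> simp_all
    rw [Derivation.congr_fun he c, ← Derivation.coeFnAddMonoidHom_apply (∑ l, _ • _), map_sum, Finset.sum_apply]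
    rfl
  let S' : Matrix (Fin (M + 1)) (Fin (M + 1)) k := Gᵀ * VanCyc.polarMatrix ab * G
  have hhess₀ : ∀ l p, χ (ht.pd l (ht.pd p F)) = VanCyc.polarMatrix ab l p := fun l p => by
    have h := congrArg (fun m : Matrix _ _ A => residue A (m l p)) hpol₁
    rw [map_polar, Matrix.map_apply] at *
    simp only [Matrix.map_apply, Matrix.of_apply, hpd₁, hμ₁, hμ₀] at h
    rw [← h]
  have hhess : ∀ i j, χ (hx.pd i (hx.pd j F)) = S' i j := fun i j => by
    simp only [hchange, map_sum, Derivation.leibniz, smul_eq_mul, Derivation.map_algebraMap, mul_zero, add_zero,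
      map_mul, χ.commutes, hres, hGt, hhess₀, S', Matrix.mul_apply, Matrix.transpose_apply, Finset.sum_mul,
      Finset.mul_sum]
    rw [Finset.sum_comm]
    refine Finset.sum_congr rfl fun p _ => ?_
    rw [Finset.sum_mul]
    refine Finset.sum_congr rfl fun l _ => ?_
    show residue A (Gt l i) * (residue A (Gt p j) * _) = _
    rw [hGt, hGt]
    ring
  have hgradx : ∀ i, χ (hx.pd i F) = 0 := fun i => by
    simp only [hchange, map_sum, map_mul, hgrad, mul_zero, Finset.sum_const_zero]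
  have hxχ : ∀ i, χ (x i) = 0 := fun i => by
    simp only [x, map_sum, map_mul, map_sub, χ.commutes]
    refine Finset.sum_eq_zero fun l _ => ?_
    rw [show algebraMap A (ResidueField A) (μ₀ (t l)) = χ (t l) from hμ₀ (t l), sub_self, mul_zero]
  -- the critical curve
  let Z₀ : Fin (M + 1) → C := Fin.cons (x 0) fun i => hx.pd i.succ F
  let Δ : C := (Matrix.of fun (i j : Fin M) => hx.pd i.succ (hx.pd j.succ F)).det
  have hZdet : (Matrix.of fun i j => hx.pd i (Z₀ j)).det = Δ := by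
    rw [Matrix.det_succ_column_zero, Finset.sum_eq_single 0]
    · simp only [Matrix.of_apply, Z₀, Fin.cons_zero, hx.pd_coord, if_pos rfl, if_true, Fin.val_zero, pow_zero, one_mul, mul_one]
      congr 1
    · intro i _ hi
      simp [Z₀, hx.pd_coord, hi]
    · simp
  have hΔ : χ Δ ≠ 0 := by
    show χ.toRingHom _ ≠ 0
    rw [RingHom.map_det]
    have e : χ.toRingHom.mapMatrix (Matrix.of fun (i j : Fin M) => hx.pd i.succ (hx.pd j.succ F)) =
        S'.submatrix Fin.succ Fin.succ := by ext i j; exact hhess i.succ j.succ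
    rw [e]; exact hminor
  obtain ⟨C₂, _, _, _, _, _⟩ := exists_away A (C := C) Δ
  haveI : Algebra.Etale C C₂ := Algebra.Etale.of_isLocalizationAway Δ
  let φ₂ := algebraMap C C₂
  have hx₂ : IsFrame A fun i => φ₂ (x i) := hx.map
  have hΔu : IsUnit (φ₂ Δ) := IsLocalization.Away.algebraMap_isUnit Δ
  have hjac₂ : (Matrix.of fun i j => hx₂.pd i (φ₂ (Z₀ j))) = (Matrix.of fun i j => hx.pd i (Z₀ j)).map φ₂ := by
    ext i j; exact hx.pd_map hx₂ (fun _ => rfl) i (Z₀ j)
  have hZ₂ : IsFrame A fun i => φ₂ (Z₀ i) := hx₂.change (by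
    rw [hjac₂, ← RingHom.mapMatrix_apply, ← RingHom.map_det, hZdet]; exact hΔu)
  let χ₂ : C₂ →ₐ[A] k := IsLocalization.Away.liftAlgHom Δ (f := χ) (isUnit_iff_ne_zero.2 hΔ)
  have hχ₂ : ∀ c, χ₂ (φ₂ c) = χ c := fun c =>
    IsLocalization.Away.lift_eq (g := χ.toRingHom) Δ (isUnit_iff_ne_zero.2 hΔ) c
  obtain ⟨μ₂, hμ₂Z, hμ₂χ⟩ := exists_lift_point hZ₂ χ₂ fun i => by
    rw [hχ₂]
    refine Fin.cases ?_ (fun j => ?_) i
    · simp only [Z₀, Fin.cons_zero]; exact hxχ 0
    · simp only [Z₀, Fin.cons_succ]; exact hgradx _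
  obtain ⟨w₃, hw₃, hcent₃⟩ := exists_centred hx₂ μ₂
  obtain ⟨w₃', hw₃', hcent₃'⟩ := exists_centred hZ₂ μ₂
  obtain ⟨C₃, _, _, _, _, _⟩ := exists_away A (C := C₂) w₃
  haveI : Algebra.Etale C₂ C₃ := Algebra.Etale.of_isLocalizationAway w₃
  have hw₃u : IsUnit (μ₂ w₃) := by rw [hw₃]; exact isUnit_one
  let μ₃ : C₃ →ₐ[A] A := IsLocalization.Away.liftAlgHom w₃ (f := μ₂) hw₃u
  have hμ₃ : ∀ c, μ₃ (algebraMap C₂ C₃ c) = μ₂ c := fun c => IsLocalization.Away.lift_eq (g := μ₂.toRingHom) w₃ hw₃u c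
  obtain ⟨C₂', _, _, _, _, _⟩ := exists_away A (C := C₂) w₃'
  have hw₃'u : IsUnit (μ₂ w₃') := by rw [hw₃']; exact isUnit_one
  let μ₂' : C₂' →ₐ[A] A := IsLocalization.Away.liftAlgHom w₃' (f := μ₂) hw₃'u
  obtain ⟨-, hkerZ₂, -⟩ := hcent₃' C₂' μ₂' fun c => IsLocalization.Away.lift_eq (g := μ₂.toRingHom) w₃' hw₃'u c
  obtain ⟨h₃, hker₃, hpd₃⟩ := hcent₃ C₃ μ₃ hμ₃
  let w' : C₃ := algebraMap C₂ C₃ w₃'
  obtain ⟨C₄, _, _, _, _, _⟩ := exists_away A (C := C₃) w'
  haveI : Algebra.Etale C₃ C₄ := Algebra.Etale.of_isLocalizationAway w'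
  have hw'u : IsUnit (μ₃ w') := by rw [hμ₃]; exact hw₃'u
  let μ₄ : C₄ →ₐ[A] A := IsLocalization.Away.liftAlgHom (S := C₄) w' (f := μ₃) hw'u
  have hμ₄ : ∀ c, μ₄ (algebraMap C₃ C₄ c) = μ₃ c := fun c => IsLocalization.Away.lift_eq (g := μ₃.toRingHom) w' hw'u c
  let ψ : C →+* C₄ := (algebraMap C₃ C₄).comp ((algebraMap C₂ C₃).comp φ₂)
  have hψμ : ∀ c, residue A (μ₄ (ψ c)) = χ c := fun c => by
    show residue A (μ₄ (algebraMap C₃ C₄ (algebraMap C₂ C₃ (φ₂ c)))) = χ c
    rw [hμ₄, hμ₃, hμ₂χ, hχ₂]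
  let x₄ : Fin (M + 1) → C₄ := fun i => algebraMap C₃ C₄ (algebraMap C₂ C₃ (φ₂ (x i) - algebraMap A C₂ (μ₂ (φ₂ (x i)))))
  have h₄ : IsFrame A x₄ := h₃.map
  have hker₄ : ∀ z, μ₄ z = 0 → z ∈ Ideal.span (Set.range x₄) := ker_span_away (w := w') μ₃ μ₄ hμ₄ _ hker₃
  have hx₄ : ∀ i, μ₄ (x₄ i) = 0 := fun i => by rw [hμ₄, hμ₃, map_sub, μ₂.commutes]; exact sub_self _
  have hpd₄ : ∀ i c, h₄.pd i (ψ c) = ψ (hx.pd i c) := fun i c => by
    show h₄.pd i (algebraMap C₃ C₄ _) = algebraMap C₃ C₄ _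
    rw [h₃.pd_map h₄ (fun _ => rfl)]
    congr 1
    show h₃.pd i (algebraMap C₂ C₃ (φ₂ c)) = algebraMap C₂ C₃ (φ₂ (hx.pd i c))
    rw [hpd₃, hx.pd_map hx₂ (fun _ => rfl)]
  let Z : Fin (M + 1) → C₄ := fun i => ψ (Z₀ i)
  have hZf : IsFrame A Z := (hZ₂.map (B' := C₃)).map
  have hμZ : ∀ i, μ₄ (Z i) = 0 := fun i => by
    show μ₄ (algebraMap C₃ C₄ (algebraMap C₂ C₃ (φ₂ (Z₀ i)))) = 0
    rw [hμ₄, hμ₃]; exact hμ₂Z i
  have hkerZ : ∀ z, μ₄ z = 0 → z ∈ Ideal.span (Set.range Z) := by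
    intro z hz
    obtain ⟨⟨z₁, _, j, rfl⟩, he⟩ := IsLocalization.surj (Submonoid.powers w') z
    obtain ⟨⟨z₂, _, l, rfl⟩, he₂⟩ := IsLocalization.surj (Submonoid.powers w₃) z₁
    have h1 : μ₂ z₂ = 0 := by
      have e1 := congrArg μ₄ he
      rw [map_mul, hz, zero_mul, hμ₄] at e1
      have e2 := congrArg μ₃ he₂
      rw [map_mul, ← e1, zero_mul, hμ₃] at e2
      exact e2.symm
    have h2' := hkerZ₂ (algebraMap C₂ C₂' z₂) (by
      show μ₂' (algebraMap C₂ C₂' z₂) = 0
      rw [show μ₂' (algebraMap C₂ C₂' z₂) = μ₂ z₂ from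
        IsLocalization.Away.lift_eq (g := μ₂.toRingHom) w₃' hw₃'u z₂, h1])
    have h3 : algebraMap C₂ C₂' z₂ ∈ (Ideal.span (Set.range fun i => φ₂ (Z₀ i))).map (algebraMap C₂ C₂') := by
      rw [Ideal.map_span, ← Set.range_comp]
      refine Ideal.span_mono ?_ h2'
      rintro _ ⟨i, rfl⟩
      refine ⟨i, ?_⟩
      show algebraMap C₂ C₂' (φ₂ (Z₀ i)) = algebraMap C₂ C₂' (φ₂ (Z₀ i) - algebraMap A C₂ (μ₂ (φ₂ (Z₀ i))))
      rw [hμ₂Z, map_zero, sub_zero]
    obtain ⟨_, ⟨e, rfl⟩, he3⟩ := (IsLocalization.algebraMap_mem_map_algebraMap_iff (Submonoid.powers w₃') C₂' _ _).1 h3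
    have h4 : algebraMap C₃ C₄ (algebraMap C₂ C₃ (w₃' ^ e * z₂)) ∈ Ideal.span (Set.range Z) := by
      have := Ideal.mem_map_of_mem ((algebraMap C₃ C₄).comp (algebraMap C₂ C₃)) he3
      rw [Ideal.map_span, ← Set.range_comp] at this
      exact this
    rw [map_mul, map_mul, map_pow, map_pow,
      Ideal.unit_mul_mem_iff_mem _ ((IsLocalization.Away.algebraMap_isUnit (S := C₄) w').pow e), ← he₂, map_mul,
      Ideal.mul_unit_mem_iff_mem _ (((IsLocalization.map_units C₃ (⟨w₃ ^ l, l, rfl⟩ : Submonoid.powers w₃))).map _),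
      ← he, Ideal.mul_unit_mem_iff_mem _ (IsLocalization.map_units C₄ (⟨w' ^ j, j, rfl⟩ : Submonoid.powers w'))] at h4
    exact h4
  let g : Fin M → C₄ := fun i => ψ (hx.pd i.succ F)
  have hZ0 : Z 0 = ψ (x 0) := by simp [Z, Z₀]
  have hZs : ∀ i : Fin M, Z i.succ = g i := fun i => by simp [Z, Z₀, g]
  have hψA : ∀ r, ψ (algebraMap A C r) = algebraMap A C₄ r := fun r => by
    show algebraMap C₃ C₄ (algebraMap C₂ C₃ (algebraMap C C₂ (algebraMap A C r))) = _
    rw [← IsScalarTower.algebraMap_apply A C C₂, ← IsScalarTower.algebraMap_apply A C₂ C₃,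
      ← IsScalarTower.algebraMap_apply A C₃ C₄]
  have hΨx : ∀ i, x₄ i = ψ (x i) - algebraMap A C₄ (μ₂ (φ₂ (x i))) := fun i => by
    show algebraMap C₃ C₄ (algebraMap C₂ C₃ _) = _
    rw [map_sub, map_sub, ← IsScalarTower.algebraMap_apply A C₂ C₃, ← IsScalarTower.algebraMap_apply A C₃ C₄]
    rfl
  -- the expansion at the critical section
  let F₄ := ψ F
  obtain ⟨a₂, ha₂, hpol₂⟩ := exists_expand h₄ μ₄ hker₄ hx₄ F₄
  let S₂ : Fin (M + 1) → Fin (M + 1) → A := fun i j => μ₄ (h₄.pd i (h₄.pd j F₄))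
  have hS₂ : ∀ i j, residue A (S₂ i j) = S' i j := fun i j => by
    show residue A (μ₄ (h₄.pd i (h₄.pd j F₄))) = _
    rw [hpd₄, hpd₄, hψμ, hhess]
  have hab00 : residue A (μ₄ (a₂ 0 0)) = VanCyc.quadEval ab (fun i => G i 0) := by
    let Gb : Matrix (Fin (M + 1)) (Fin (M + 1)) L := G.map ι
    let Hb : Matrix (Fin (M + 1)) (Fin (M + 1)) L := (H.map (residue A)).map ι
    have hGH : Gb * Hb = 1 := by
      show G.map ι * (H.map (residue A)).map ι = 1
      rw [← Matrix.map_mul, ← hGtm, ← Matrix.map_mul, Matrix.mul_nonsing_inv _ hGtu, Matrix.map_one _ (map_zero _) (map_one _),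
        Matrix.map_one _ (map_zero _) (map_one _)]
    have hΔΛ : IsUnit (Λ Δ) := MvPowerSeries.isUnit_iff_constantCoeff.2 (isUnit_iff_ne_zero.2 ((hcc _).1 hΔ))
    let Λ₂ : C₂ →ₐ[A] MvPowerSeries (Fin (M + 1)) L := IsLocalization.Away.liftAlgHom Δ (f := Λ) hΔΛ
    have hΛ₂ : ∀ c, Λ₂ (φ₂ c) = Λ c := fun c => IsLocalization.Away.lift_eq (g := Λ.toRingHom) Δ hΔΛ c
    have hc2 : ∀ z, cc (Λ₂ z) = ι (residue A (μ₂ z)) := fun z => RingHom.congr_fun
      (IsLocalization.ringHom_ext (Submonoid.powers Δ) (j := cc.comp Λ₂.toRingHom)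
        (k := (ι.comp (residue A)).comp μ₂.toRingHom) (RingHom.ext fun c => by
          show cc (Λ₂ (φ₂ c)) = ι (residue A (μ₂ (φ₂ c)))
          rw [hΛ₂, hμ₂χ, hχ₂, hccχ])) z
    have hw3Λ : IsUnit (Λ₂ w₃) := MvPowerSeries.isUnit_iff_constantCoeff.2 (by
      show IsUnit (cc (Λ₂ w₃))
      rw [hc2, hw₃, map_one, map_one]; exact isUnit_one)
    let Λ₃ : C₃ →ₐ[A] MvPowerSeries (Fin (M + 1)) L := IsLocalization.Away.liftAlgHom w₃ (f := Λ₂) hw3Λ
    have hΛ₃ : ∀ z, Λ₃ (algebraMap C₂ C₃ z) = Λ₂ z := fun z => IsLocalization.Away.lift_eq (g := Λ₂.toRingHom) w₃ hw3Λ z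
    have hc3 : ∀ z, cc (Λ₃ z) = ι (residue A (μ₃ z)) := fun z => RingHom.congr_fun
      (IsLocalization.ringHom_ext (Submonoid.powers w₃) (j := cc.comp Λ₃.toRingHom)
        (k := (ι.comp (residue A)).comp μ₃.toRingHom) (RingHom.ext fun c => by
          show cc (Λ₃ (algebraMap C₂ C₃ c)) = ι (residue A (μ₃ (algebraMap C₂ C₃ c)))
          rw [hΛ₃, hμ₃, hc2])) z
    have hw'Λ : IsUnit (Λ₃ w') := MvPowerSeries.isUnit_iff_constantCoeff.2 (by
      show IsUnit (cc (Λ₃ w'))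
      rw [hc3, hμ₃, hw₃', map_one, map_one]; exact isUnit_one)
    let Λ₄ : C₄ →ₐ[A] MvPowerSeries (Fin (M + 1)) L := IsLocalization.Away.liftAlgHom w' (f := Λ₃) hw'Λ
    have hΛ₄ : ∀ z, Λ₄ (algebraMap C₃ C₄ z) = Λ₃ z := fun z => IsLocalization.Away.lift_eq (g := Λ₃.toRingHom) w' hw'Λ z
    have hc4 : ∀ z, cc (Λ₄ z) = ι (residue A (μ₄ z)) := fun z => RingHom.congr_fun
      (IsLocalization.ringHom_ext (Submonoid.powers w') (j := cc.comp Λ₄.toRingHom)
        (k := (ι.comp (residue A)).comp μ₄.toRingHom) (RingHom.ext fun c => by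
          show cc (Λ₄ (algebraMap C₃ C₄ c)) = ι (residue A (μ₄ (algebraMap C₃ C₄ c)))
          rw [hΛ₄, hμ₄, hc3])) z
    have hΛψ : ∀ c, Λ₄ (ψ c) = Λ c := fun c => by
      show Λ₄ (algebraMap C₃ C₄ (algebraMap C₂ C₃ (φ₂ c))) = Λ c
      rw [hΛ₄, hΛ₃, hΛ₂]
    have hlx : (Matrix.of fun i j => lin (Λ₄ (x₄ i)) j) = Hb * J := by
      ext i j
      rw [Matrix.of_apply, hΨx, ← hψA, ← map_sub, hΛψ, hlin]
      simp only [x, lin, map_sum, map_mul, map_sub, Λ.commutes, Matrix.mul_apply, Hb, J, Matrix.map_apply,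
        Matrix.of_apply]
      refine Finset.sum_congr rfl fun l _ => ?_
      rw [IsScalarTower.algebraMap_apply A L (MvPowerSeries (Fin (M + 1)) L),
        IsScalarTower.algebraMap_apply A L (MvPowerSeries (Fin (M + 1)) L),
        show ∀ r, algebraMap L (MvPowerSeries (Fin (M + 1)) L) r = MvPowerSeries.C r from fun r => rfl,
        show ∀ r, algebraMap L (MvPowerSeries (Fin (M + 1)) L) r = MvPowerSeries.C r from fun r => rfl,
        mul_sub, map_sub, MvPowerSeries.coeff_C_mul, MvPowerSeries.coeff_C_mul, MvPowerSeries.coeff_C,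
        if_neg (by simp), mul_zero, sub_zero, IsScalarTower.algebraMap_apply A k L]
      rfl
    have key : ∀ w, VanCyc.quadEval (fun i j => ι (residue A (μ₄ (a₂ i j)))) ((Hb * J) *ᵥ w) = v0 * VanCyc.quadEval q w := by
      intro w
      have h := quadEval_residue hmL Λ₄ hf.1 (F := F₄) (v := v) (x := x₄) (by rw [hΛψ]; exact hΛF)
        (fun i => by rw [hc4, hx₄, map_zero, map_zero]) (c := μ₄ F₄) (by rw [← residue_eq_zero_iff, hψμ, hF])
        (β := fun i => μ₄ (h₄.pd i F₄)) (fun i => by rw [← residue_eq_zero_iff, hpd₄, hψμ, hgradx]) ha₂ w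
      rw [hlx] at h
      have e1 : (fun i j => MvPowerSeries.constantCoeff (Λ₄ (a₂ i j))) = fun i j => ι (residue A (μ₄ (a₂ i j))) := by
        funext i j; exact hc4 _
      rw [e1] at h
      exact h
    let e0 : Fin (M + 1) → L := Pi.single 0 1
    obtain ⟨w, hw⟩ := hJsurj (Gb *ᵥ e0)
    have h1 := key w
    rw [← Matrix.mulVec_mulVec, hw, Matrix.mulVec_mulVec, mul_eq_one_comm.1 hGH, Matrix.one_mulVec, ← hQab, hw] at h1
    refine ι.injective ?_
    rw [map_quadEval']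
    convert h1 using 2
    · exact (quadEval_single (R := L) (fun i j => ι (residue A (μ₄ (a₂ i j))))).symm
    · funext i
      simp [Gb, e0]
  have hub : residue A (μ₄ (a₂ 0 0)) ≠ 0 := by rw [hab00]; exact hQc
  -- the curve
  let χ₄ : C₄ →ₐ[A] k := (Ideal.Quotient.mkₐ A (maximalIdeal A)).comp μ₄
  have hχ₄ : ∀ z, χ₄ z = residue A (μ₄ z) := fun z => rfl
  obtain ⟨R, _, _, ζ, T, c₀, c₁, c₂, hc₀A, hζA, hζ0, hζs, hζc₀, hζT, hc₀T, hc₁T, hc₁T2, hc₂T2⟩ :=
    exists_curve hZf χ₄ fun i => by rw [hχ₄, hμZ, map_zero]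
  have hζg : ∀ i, ζ (g i) = 0 := fun i => hZs i ▸ hζs i
  have hx₄0 : x₄ 0 = Z 0 := by
    rw [hΨx, hZ0, show μ₂ (φ₂ (x 0)) = 0 from by simpa [Z₀] using hμ₂Z 0, map_zero, sub_zero]
  choose p hp using fun j => hζT (x₄ j) (by rw [hχ₄, hx₄, map_zero])
  have hβ : ∀ i : Fin M, μ₄ (h₄.pd i.succ F₄) = 0 := fun i => by
    rw [hpd₄]
    exact (hZs i ▸ hμZ i.succ : μ₄ (g i) = 0)
  have hη : ∀ j : Fin M, c₀ (p j.succ) = 0 := by
    have hlinEq : ∀ i : Fin M, ∑ j : Fin M, S' i.succ j.succ * c₀ (p j.succ) = 0 := by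
      intro i
      have hgx : g i ∈ Ideal.span (Set.range x₄) := hker₄ _ (hZs i ▸ hμZ i.succ)
      obtain ⟨P, hP⟩ := (Submodule.mem_span_range_iff_exists_fun C₄).1 hgx
      have hPS : ∀ l, residue A (μ₄ (P l)) = S' i.succ l := fun l => by
        have h := congrArg (fun z => residue A (μ₄ (h₄.pd l z))) hP
        simp only [map_sum, map_add, smul_eq_mul, Derivation.leibniz, h₄.pd_coord, map_mul, hx₄, mul_ite, mul_one,
          mul_zero, zero_mul, add_zero, apply_ite μ₄, apply_ite (residue A), map_zero, Finset.sum_ite_eq,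
          Finset.mem_univ, if_true] at h
        rw [h, show g i = ψ (hx.pd i.succ F) from rfl, hpd₄, hψμ, hhess]
        exact congrFun (congrFun (show S'ᵀ = S' by
          simp only [S', Matrix.transpose_mul, Matrix.transpose_transpose, polarMatrix_transpose, Matrix.mul_assoc]) i.succ) l
      have h := congrArg (fun z => c₁ (ζ z)) hP
      simp only [map_sum, smul_eq_mul, map_mul, hp, hζg, map_zero] at h
      rw [Finset.sum_congr rfl (g := fun l => S' i.succ l * c₀ (p l)) fun l _ => by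
        rw [mul_left_comm, hc₁T, map_mul, hζc₀, hχ₄, hPS]] at h
      rw [Fin.sum_univ_succ, show S' i.succ 0 = 0 from hcol _, zero_mul, zero_add] at h
      exact h
    have := Matrix.eq_zero_of_mulVec_eq_zero (M := S'.submatrix Fin.succ Fin.succ) hminor
      (v := fun j => c₀ (p j.succ)) (funext hlinEq)
    exact congrFun this
  have hp0 : c₀ (p 0) = 1 := by
    rw [← hc₁T, ← hp 0, hx₄0, hζ0, ← mul_one T, hc₁T, map_one]
  have hζF : ζ F₄ = T ^ 2 * VanCyc.quadEval (fun i j => ζ (a₂ i j)) p := by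
    conv_lhs => rw [ha₂]
    rw [map_add, map_add, map_sum, hζA, (residue_eq_zero_iff _).2 (show μ₄ F₄ ∈ maximalIdeal A by
      rw [← residue_eq_zero_iff, hψμ, hF]), map_zero, Finset.sum_eq_zero, zero_add, zero_add, map_quadEval',
      show (fun i => ζ (x₄ i)) = fun i => T * p i from funext hp, Et18.NondegIff.quadEval_smul']
    intro i _
    rw [map_mul, hζA, hpd₄, hψμ, hgradx, map_zero, zero_mul]
  have hc₀Q : c₀ (VanCyc.quadEval (fun i j => ζ (a₂ i j)) p) = residue A (μ₄ (a₂ 0 0)) := by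
    rw [map_quadEval', show (fun i => c₀ (p i)) = Pi.single 0 1 from funext fun i => Fin.cases
      (by rw [hp0, Pi.single_eq_same]) (fun j => by rw [hη, Pi.single_eq_of_ne (Fin.succ_ne_zero j)]) i]
    rw [quadEval_single]
    exact (hζc₀ _).trans (hχ₄ _)
  -- the finite double cover
  let Igen : Ideal C₄ := Ideal.span (Set.range g) ⊔ Ideal.span {F₄}
  let T₁ := C₄ ⧸ Igen
  have hIχ : Igen ≤ RingHom.ker χ₄.toRingHom := sup_le (Ideal.span_le.2 fun _ ⟨i, hi⟩ => hi ▸ (by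
      show χ₄ (g i) = 0
      rw [hχ₄, hψμ, hgradx]))
    ((Ideal.span_singleton_le_iff_mem _).2 (by show χ₄ F₄ = 0; rw [hχ₄, hψμ, hF]))
  let χT : T₁ →ₐ[A] k := Ideal.Quotient.liftₐ Igen χ₄ fun z hz => hIχ hz
  have hχT : ∀ z, χT (Ideal.Quotient.mk Igen z) = χ₄ z := fun z => rfl
  let qT : Ideal T₁ := RingHom.ker χT.toRingHom
  haveI hqT : qT.IsPrime := RingHom.ker_isPrime _
  let TQ := Localization.AtPrime qT
  let mA := maximalIdeal A
  let σ : C₄ →ₐ[A] TQ := (IsScalarTower.toAlgHom A T₁ TQ).comp (Ideal.Quotient.mkₐ A Igen)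
  have hσI : ∀ z ∈ Igen, σ z = 0 := fun z hz => by
    show algebraMap T₁ TQ (Ideal.Quotient.mk Igen z) = 0
    rw [Ideal.Quotient.eq_zero_iff_mem.2 hz, map_zero]
  have hσu : ∀ z, χ₄ z ≠ 0 → IsUnit (σ z) := fun z hz =>
    IsLocalization.map_units TQ (⟨Ideal.Quotient.mk Igen z, hz⟩ : qT.primeCompl)
  have hσg : ∀ i, σ (g i) = 0 := fun i => hσI _ (Ideal.mem_sup_left (Ideal.subset_span (Set.mem_range_self (f := g) i)))
  let X₀ : TQ := σ (Z 0)
  have hdiv : ∀ z : C₄, ∃ z' : C₄, σ z = algebraMap A TQ (μ₄ z) + X₀ * σ z' := by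
    intro z
    obtain ⟨P, hP⟩ := (Submodule.mem_span_range_iff_exists_fun C₄).1
      (hkerZ (z - algebraMap A C₄ (μ₄ z)) (by rw [map_sub, μ₄.commutes]; exact sub_self _))
    refine ⟨P 0, ?_⟩
    have h := congrArg σ hP
    rw [Fin.sum_univ_succ, map_add, map_sum, Finset.sum_eq_zero fun i _ => by rw [smul_eq_mul, hZs, map_mul, hσg, mul_zero],
      add_zero, map_sub, σ.commutes, smul_eq_mul, map_mul] at h
    linear_combination -h
  let mTQ : Ideal TQ := mA.map (algebraMap A TQ)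
  have hmem : ∀ r ∈ mA, algebraMap A TQ r ∈ mTQ := fun r hr => Ideal.mem_map_of_mem _ hr
  have hsq : X₀ ^ 2 ∈ mTQ := by
    have hxi : ∀ i, ∃ z', σ (x₄ i) = X₀ * σ z' ∧ c₀ (ζ z') = c₀ (p i) := fun i => by
      obtain ⟨P, hP⟩ := (Submodule.mem_span_range_iff_exists_fun C₄).1 (hkerZ (x₄ i) (hx₄ i))
      refine ⟨P 0, ?_, ?_⟩
      · have h := congrArg σ hP
        rw [Fin.sum_univ_succ, map_add, map_sum, Finset.sum_eq_zero fun i _ => by
          rw [smul_eq_mul, hZs, map_mul, hσg, mul_zero], add_zero, smul_eq_mul, map_mul, mul_comm] at h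
        exact h.symm
      · have h := congrArg (fun z => c₁ (ζ z)) hP
        simp only [map_sum, smul_eq_mul, map_mul, hp] at h
        rw [Fin.sum_univ_succ, Finset.sum_eq_zero fun i _ => by rw [hζs, mul_zero, map_zero], add_zero, hζ0,
          mul_comm, hc₁T, hc₁T] at h
        exact h
    choose z' hz' hz'c using hxi
    let Qe : C₄ := VanCyc.quadEval a₂ z'
    have hQe : IsUnit (σ Qe) := hσu _ (by
      rw [← hζc₀, map_quadEval', map_quadEval', funext hz'c, ← map_quadEval', hc₀Q]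
      exact hub)
    have h := hσI F₄ (Ideal.mem_sup_right (Ideal.mem_span_singleton_self _))
    rw [ha₂, map_add, map_add, map_sum, σ.commutes, show σ (VanCyc.quadEval a₂ x₄) = X₀ ^ 2 * σ Qe by
      show σ.toRingHom _ = _
      rw [map_quadEval', ← show σ.toRingHom Qe = σ Qe from rfl, map_quadEval', ← Et18.NondegIff.quadEval_smul']
      congr 1
      funext i
      exact hz' i] at h
    rw [← Ideal.mul_unit_mem_iff_mem _ hQe]
    have h' : X₀ ^ 2 * σ Qe = -(algebraMap A TQ (μ₄ F₄) + ∑ i, σ (algebraMap A C₄ (μ₄ (h₄.pd i F₄)) * x₄ i)) := by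
      linear_combination h
    rw [h']
    refine neg_mem (add_mem (hmem _ (by rw [← residue_eq_zero_iff, hψμ, hF])) (Ideal.sum_mem _ fun i _ => ?_))
    rw [map_mul, σ.commutes]
    exact Ideal.mul_mem_right _ _ (hmem _ (by rw [← residue_eq_zero_iff, hpd₄, hψμ, hgradx]))
  let N₀ : Submodule A TQ := Submodule.span A {1, X₀}
  have h2elem : ∀ z : C₄, ∃ r r' : A, r = μ₄ z ∧ σ z - (algebraMap A TQ r + algebraMap A TQ r' * X₀) ∈ mTQ := fun z => by
    obtain ⟨z', h'⟩ := hdiv z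
    obtain ⟨z'', h''⟩ := hdiv z'
    refine ⟨_, μ₄ z', rfl, ?_⟩
    rw [h', h'', show algebraMap A TQ (μ₄ z) + X₀ * (algebraMap A TQ (μ₄ z') + X₀ * σ z'') -
      (algebraMap A TQ (μ₄ z) + algebraMap A TQ (μ₄ z') * X₀) = X₀ ^ 2 * σ z'' by ring]
    exact Ideal.mul_mem_right _ _ hsq
  have hgen : ∀ y : TQ, ∃ r r' : A, y - (algebraMap A TQ r + algebraMap A TQ r' * X₀) ∈ mTQ := fun y => by
    obtain ⟨a, s₀, rfl⟩ := IsLocalization.exists_mk'_eq qT.primeCompl y
    obtain ⟨a, rfl⟩ := Ideal.Quotient.mk_surjective a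
    obtain ⟨sl, hsl⟩ := Ideal.Quotient.mk_surjective (s₀ : T₁)
    obtain ⟨r, r', hr, h⟩ := h2elem a
    obtain ⟨ρ, ρ', hρ, h'⟩ := h2elem sl
    have hρu : IsUnit ρ := by
      rw [hρ, ← residue_ne_zero_iff_isUnit]
      intro h0
      exact s₀.2 (show χT (s₀ : T₁) = 0 by rw [← hsl, hχT, hχ₄]; exact h0)
    obtain ⟨i, hi⟩ := hρu.exists_left_inv
    refine ⟨i * r, i * r' - i * i * r * ρ', ?_⟩
    have hs' : IsUnit (σ sl) := by
      show IsUnit (algebraMap T₁ TQ (Ideal.Quotient.mk Igen sl))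
      rw [hsl]; exact IsLocalization.map_units TQ s₀
    rw [← Ideal.mul_unit_mem_iff_mem _ hs']
    have e : IsLocalization.mk' TQ (Ideal.Quotient.mk Igen a) s₀ * σ sl = σ a := by
      show _ * algebraMap T₁ TQ (Ideal.Quotient.mk Igen sl) = _
      rw [hsl, IsLocalization.mk'_spec]
      rfl
    rw [sub_mul, e]
    have hid : σ a - (algebraMap A TQ (i * r) + algebraMap A TQ (i * r' - i * i * r * ρ') * X₀) * σ sl =
        (σ a - (algebraMap A TQ r + algebraMap A TQ r' * X₀)) -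
        (algebraMap A TQ (i * r) + algebraMap A TQ (i * r' - i * i * r * ρ') * X₀) *
          (σ sl - (algebraMap A TQ ρ + algebraMap A TQ ρ' * X₀)) -
        X₀ ^ 2 * (algebraMap A TQ (i * r' - i * i * r * ρ') * algebraMap A TQ ρ') := by
      have hi' : algebraMap A TQ i * algebraMap A TQ ρ = 1 := by rw [← map_mul, hi, map_one]
      simp only [map_sub, map_mul]
      linear_combination (-(algebraMap A TQ r) - algebraMap A TQ r' * X₀ +
        algebraMap A TQ i * algebraMap A TQ r * algebraMap A TQ ρ' * X₀) * hi'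
    rw [hid]
    exact sub_mem (sub_mem h (Ideal.mul_mem_left _ _ h')) (Ideal.mul_mem_right _ _ hsq)
  haveI hqf : Algebra.QuasiFiniteAt A qT := by
    haveI : Algebra.WeaklyQuasiFiniteAt A qT := by
      rw [Algebra.weaklyQuasiFiniteAt_iff]
      have hunder : qT.under A = mA := Ideal.ext fun r => by
        show χT (algebraMap A T₁ r) = 0 ↔ _
        rw [χT.commutes, hres, residue_eq_zero_iff]
      rw [hunder]
      haveI : Module.Finite A (TQ ⧸ mTQ) := by
        refine ⟨⟨{1, Ideal.Quotient.mk mTQ X₀}, ?_⟩⟩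
        rw [eq_top_iff]
        intro y _
        obtain ⟨y, rfl⟩ := Ideal.Quotient.mk_surjective y
        obtain ⟨r, r', h⟩ := hgen y
        rw [Finset.coe_insert, Finset.coe_singleton, Submodule.mem_span_pair]
        refine ⟨r, r', ?_⟩
        have e : ∀ (r : A) (z : TQ), r • Ideal.Quotient.mk mTQ z = Ideal.Quotient.mk mTQ (algebraMap A TQ r * z) :=
          fun r z => by rw [← Algebra.smul_def]; rfl
        rw [show (1 : TQ ⧸ mTQ) = Ideal.Quotient.mk mTQ 1 from rfl, e, e, mul_one, ← map_add, eq_comm,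
          Ideal.Quotient.eq]
        exact h
      infer_instance
    haveI : Algebra.FiniteType A C₄ := by
      haveI := hZf.smooth
      infer_instance
    exact Algebra.QuasiFiniteAt.of_weaklyQuasiFiniteAt qT
  haveI : Algebra.FiniteType A C₄ := by haveI := hZf.smooth; infer_instance
  haveI : Module.Finite A TQ := (HenselLib.QFLocal.surjective_and_finite A qT (Ideal.ext fun r => by
    show χT (algebraMap A T₁ r) = 0 ↔ _
    rw [χT.commutes, hres, residue_eq_zero_iff])).2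
  have hN : (⊤ : Submodule A TQ) ≤ N₀ := Submodule.le_of_le_smul_of_le_jacobson_bot Module.Finite.fg_top
    (IsLocalRing.maximalIdeal_le_jacobson _) fun y _ => by
      obtain ⟨r, r', h⟩ := hgen y
      rw [← sub_add_cancel y (algebraMap A TQ r + algebraMap A TQ r' * X₀), add_comm]
      refine Submodule.add_mem_sup (Submodule.mem_span_pair.2 ⟨r, r', by simp [Algebra.smul_def]⟩) ?_
      rw [Ideal.smul_top_eq_map]
      exact h
  obtain ⟨r₀, r₁, hr⟩ := Submodule.mem_span_pair.1 (hN (show X₀ ^ 2 ∈ (⊤ : Submodule A TQ) from trivial))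
  let b : A := -r₁
  let cA : A := -r₀
  let Pz : C₄ := Z 0 ^ 2 + algebraMap A C₄ b * Z 0 + algebraMap A C₄ cA
  have hPz : σ Pz = 0 := by
    simp only [Pz, b, cA, map_add, map_pow, map_mul, σ.commutes, map_neg]
    rw [Algebra.smul_def, Algebra.smul_def, mul_one] at hr
    linear_combination -hr
  obtain ⟨⟨s, hs⟩, hsP⟩ := (IsLocalization.map_eq_zero_iff qT.primeCompl TQ (Ideal.Quotient.mk Igen Pz)).1 hPz
  obtain ⟨s, rfl⟩ := Ideal.Quotient.mk_surjective s
  rw [← map_mul, Ideal.Quotient.eq_zero_iff_mem] at hsP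
  obtain ⟨eg, heg, eF, heF, hsum⟩ := Submodule.mem_sup.1 hsP
  obtain ⟨v', rfl⟩ := Ideal.mem_span_singleton'.1 heF
  have hsu : c₀ (ζ s) ≠ 0 := by rw [hζc₀]; exact hs
  have hζeg : ζ eg = 0 := by
    have : Ideal.span (Set.range g) ≤ RingHom.ker ζ := Ideal.span_le.2 fun _ ⟨i, hi⟩ => hi ▸ hζg i
    exact this heg
  have hζsum : T ^ 2 * (ζ v' * VanCyc.quadEval (fun i j => ζ (a₂ i j)) p) =
      ζ s * (T ^ 2 + algebraMap k R (residue A b) * T + algebraMap k R (residue A cA)) := by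
    have := congrArg ζ hsum
    simp only [Pz, map_add, map_mul, map_pow, hζeg, hζF, hζ0, hζA, zero_add] at this
    linear_combination this
  have hcA : residue A cA = 0 := by
    have := congrArg c₀ hζsum
    simp only [map_mul, map_add, map_pow, hc₀T, hc₀A, mul_zero, zero_mul, add_zero, zero_add, zero_pow two_ne_zero] at this
    exact (hc₀A _).symm.trans ((mul_eq_zero.1 this.symm).resolve_left hsu)
  have hbA : residue A b = 0 := by
    have h := congrArg c₁ hζsum
    rw [hc₁T2, hcA, map_zero, add_zero, mul_add, map_add, mul_comm (ζ s), hc₁T2, zero_add,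
      show ζ s * (algebraMap k R (residue A b) * T) = T * (ζ s * algebraMap k R (residue A b)) by ring, hc₁T,
      map_mul, hc₀A] at h
    exact (mul_eq_zero.1 h.symm).resolve_left hsu
  have hv' : χ₄ v' ≠ 0 := by
    intro h0
    have h := congrArg c₂ hζsum
    rw [hcA, hbA, map_zero, zero_mul, add_zero, add_zero, mul_comm (ζ s), hc₂T2, hc₂T2, map_mul, hζc₀, h0,
      zero_mul] at h
    exact hsu h.symm
  -- the unit
  obtain ⟨C₅, _, _, _, _, _⟩ := exists_away A (C := C₄) s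
  haveI : Algebra.Etale C₄ C₅ := Algebra.Etale.of_isLocalizationAway s
  have hsμ : IsUnit (μ₄ s) := (residue_ne_zero_iff_isUnit _).1 hs
  let μ₅ : C₅ →ₐ[A] A := IsLocalization.Away.liftAlgHom s (f := μ₄) hsμ
  have hμ₅ : ∀ z, μ₅ (algebraMap C₄ C₅ z) = μ₄ z := fun z => IsLocalization.Away.lift_eq (g := μ₄.toRingHom) s hsμ z
  let φ₅ := algebraMap C₄ C₅
  let Z₅ : Fin (M + 1) → C₅ := fun i => φ₅ (Z i)
  have hZ₅ : IsFrame A Z₅ := hZf.map
  have h₅ : IsFrame A fun i => φ₅ (x₄ i) := h₄.map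
  let g₅ : Fin M → C₅ := fun i => φ₅ (g i)
  let I₅ : Ideal C₅ := Ideal.span (Set.range g₅)
  have hg₅ : ∀ i, g₅ i ∈ I₅ := fun i => Ideal.subset_span (Set.mem_range_self (f := g₅) i)
  have hμg₅ : ∀ i, μ₅ (g₅ i) = 0 := fun i => by rw [hμ₅, ← hZs]; exact hμZ _
  have hI₅μ : ∀ z ∈ I₅, μ₅ z = 0 := fun z hz => by
    have : I₅ ≤ RingHom.ker μ₅ := Ideal.span_le.2 fun _ ⟨i, hi⟩ => hi ▸ hμg₅ i
    exact this hz
  obtain ⟨si, hsi⟩ := (IsLocalization.Away.algebraMap_isUnit (S := C₅) s).exists_left_inv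
  let F₅ := φ₅ F₄
  let u₀ : C₅ := si * φ₅ v'
  have hu₀ : u₀ * F₅ - φ₅ Pz ∈ I₅ := by
    have h1 : φ₅ eg ∈ I₅ := by
      have := Ideal.mem_map_of_mem φ₅ heg
      rwa [Ideal.map_span, ← Set.range_comp] at this
    have h2' := congrArg φ₅ hsum
    simp only [map_add, map_mul] at h2'
    rw [show u₀ * F₅ - φ₅ Pz = -si * φ₅ eg by
      simp only [u₀, F₅]; linear_combination si * h2' + φ₅ Pz * hsi]
    exact Ideal.mul_mem_left _ _ h1
  let D : Fin M → Derivation A C₅ C₅ := fun j => hZ₅.pd j.succ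
  have hDg : ∀ j i, D j (g₅ i) = if j = i then 1 else 0 := fun j i => by
    show hZ₅.pd j.succ (φ₅ (g i)) = _
    rw [← hZs, show φ₅ (Z i.succ) = Z₅ i.succ from rfl, hZ₅.pd_coord]
    simp only [Fin.succ_inj]
  have hD0 : ∀ j, D j (φ₅ Pz) = 0 := fun j => by
    show hZ₅.pd j.succ (φ₅ Pz) = 0
    simp only [Pz, map_add, map_mul, map_pow, ← IsScalarTower.algebraMap_apply A C₄ C₅, Derivation.leibniz,
      Derivation.leibniz_pow, smul_eq_mul, Derivation.map_algebraMap, mul_zero, add_zero,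
      show φ₅ (Z 0) = Z₅ 0 from rfl, hZ₅.pd_coord, if_neg (Fin.succ_ne_zero j), smul_zero, φ₅]
  let W : Matrix (Fin M) (Fin M) C₅ :=
    Matrix.of fun l j => h₅.pd l.succ (g₅ j)
  have hWm : W = (Matrix.of fun l j : Fin M => hx.pd l.succ (hx.pd j.succ F)).map (φ₅.comp ψ) := by
    ext l j
    show h₅.pd l.succ (φ₅ (ψ (hx.pd j.succ F))) = φ₅ (ψ (hx.pd l.succ (hx.pd j.succ F)))
    rw [h₄.pd_map h₅ (fun _ => rfl), hpd₄]
  have hWu : IsUnit W.det := by
    rw [hWm, ← RingHom.mapMatrix_apply, ← RingHom.map_det]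
    exact ((hΔu.map (algebraMap C₂ C₃)).map (algebraMap C₃ C₄)).map φ₅
  have hchainZ : ∀ (l : Fin M) (z : C₅), h₅.pd l.succ z = ∑ j, W l j * D j z := fun l z => by
    have he := hZ₅.derivation_ext (d := h₅.pd l.succ) (d' := ∑ j, W l j • D j) fun i => by
      rw [← Derivation.coeFnAddMonoidHom_apply (∑ j, _ • _), map_sum, Finset.sum_apply]
      show _ = ∑ j, W l j * hZ₅.pd j.succ (Z₅ i)
      refine Fin.cases ?_ (fun i' => ?_) i
      · rw [Finset.sum_eq_zero fun j _ => by rw [hZ₅.pd_coord, if_neg (Fin.succ_ne_zero j), mul_zero],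
          show Z₅ 0 = φ₅ (Z 0) from rfl, ← hx₄0, h₅.pd_coord, if_neg (Fin.succ_ne_zero l)]
      · rw [Finset.sum_eq_single i' (fun j _ hj => by
          rw [hZ₅.pd_coord, if_neg (fun e => hj (Fin.succ_injective _ e)), mul_zero]) (by simp),
          hZ₅.pd_coord, if_pos rfl, mul_one, show Z₅ i'.succ = φ₅ (Z i'.succ) from rfl, hZs]
        rfl
    rw [Derivation.congr_fun he z, ← Derivation.coeFnAddMonoidHom_apply (∑ j, _ • _), map_sum, Finset.sum_apply]
    rfl
  have hgF : ∀ l, g₅ l = ∑ j, W l j * D j F₅ := fun l => by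
    rw [← hchainZ, h₄.pd_map h₅ (fun _ => rfl)]
    show φ₅ (g l) = φ₅ (h₄.pd l.succ (ψ F))
    rw [hpd₄]
  have hDF : ∀ j, D j F₅ = ∑ l, W⁻¹ j l * g₅ l := fun j => by
    have e : W *ᵥ (fun j => D j F₅) = g₅ := funext fun l => (hgF l).symm
    show _ = (W⁻¹ *ᵥ g₅) j
    rw [← e, Matrix.mulVec_mulVec, Matrix.nonsing_inv_mul W hWu, Matrix.one_mulVec]
  have hDFI : ∀ j, D j F₅ ∈ I₅ := fun j => by
    rw [hDF]; exact Ideal.sum_mem _ fun l _ => Ideal.mul_mem_left _ _ (hg₅ l)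
  let u : C₅ := u₀ - ∑ i, g₅ i * D i u₀
  have hDu : ∀ j, D j u ∈ I₅ := fun j => by
    simp only [u, map_sub, map_sum, Derivation.leibniz, smul_eq_mul, hDg, mul_ite, mul_one, mul_zero,
      Finset.sum_add_distrib, Finset.sum_ite_eq, Finset.mem_univ, if_true]
    rw [show D j u₀ - (∑ i, g₅ i * D j (D i u₀) + D j u₀) = -∑ i, g₅ i * D j (D i u₀) by ring]
    exact neg_mem (Ideal.sum_mem _ fun i _ => Ideal.mul_mem_right _ _ (hg₅ i))
  let G₅ : C₅ := u * F₅ - φ₅ Pz
  have hG₅ : G₅ ∈ I₅ := by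
    rw [show G₅ = (u₀ * F₅ - φ₅ Pz) - (∑ i, g₅ i * D i u₀) * F₅ by simp only [G₅, u]; ring]
    exact sub_mem hu₀ (Ideal.mul_mem_right _ _ (Ideal.sum_mem _ fun i _ => Ideal.mul_mem_right _ _ (hg₅ i)))
  obtain ⟨hcoef, hh⟩ := (Submodule.mem_span_range_iff_exists_fun C₅).1 hG₅
  have hhI : ∀ j, hcoef j ∈ I₅ := fun j => by
    have e1 : D j G₅ = (∑ i, g₅ i * D j (hcoef i)) + hcoef j := by
      rw [← hh]
      simp only [map_sum, smul_eq_mul, Derivation.leibniz, hDg, mul_ite, mul_one, mul_zero, Finset.sum_add_distrib,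
        Finset.sum_ite_eq, Finset.mem_univ, if_true]
      ring
    have e2 : D j G₅ ∈ I₅ := by
      show D j (u * F₅ - φ₅ Pz) ∈ I₅
      rw [map_sub, hD0, sub_zero, Derivation.leibniz, smul_eq_mul, smul_eq_mul]
      exact add_mem (Ideal.mul_mem_left _ _ (hDFI j)) (Ideal.mul_mem_left _ _ (hDu j))
    rw [show hcoef j = D j G₅ - ∑ i, g₅ i * D j (hcoef i) by rw [e1]; ring]
    exact sub_mem e2 (Ideal.sum_mem _ fun i _ => Ideal.mul_mem_right _ _ (hg₅ i))
  choose d₀ hd₀ using fun j => (Submodule.mem_span_range_iff_exists_fun C₅).1 (hhI j)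
  have hG5d : G₅ = ∑ i, ∑ j, d₀ i j * Z₅ i.succ * Z₅ j.succ := by
    rw [← hh]
    refine Finset.sum_congr rfl fun i _ => ?_
    rw [smul_eq_mul, ← hd₀ i, Finset.sum_mul]
    refine Finset.sum_congr rfl fun j _ => ?_
    rw [smul_eq_mul, show Z₅ i.succ = g₅ i from congrArg φ₅ (hZs i), show Z₅ j.succ = g₅ j from congrArg φ₅ (hZs j)]
    ring
  have hμu : residue A (μ₅ u) ≠ 0 := by
    have : μ₅ u = μ₅ u₀ := by
      rw [map_sub, map_sum, Finset.sum_eq_zero fun i _ => by rw [map_mul, hμg₅, zero_mul], sub_zero]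
    rw [this, map_mul, hμ₅, map_mul]
    refine mul_ne_zero (fun h0 => ?_) hv'
    have := congrArg (fun z => residue A (μ₅ z)) hsi
    simp only [map_mul, map_one, h0, zero_mul] at this
    exact zero_ne_one this
  let d : Fin M → Fin M → C₅ := tri d₀
  have hdet : IsUnit (VanCyc.polarMatrix fun i j => μ₅ (d i j)).det := by
    refine (residue_ne_zero_iff_isUnit _).1 ?_
    let Φ : Matrix (Fin M) (Fin M) A := Matrix.of fun j a => μ₅ (D a (D j F₅))
    have hμW : W.map μ₅ * Φ = 1 := by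
      ext l a
      rw [Matrix.mul_apply, Matrix.one_apply]
      have h := congrArg (fun z => μ₅ (D a z)) (hgF l)
      simp only [hDg, map_sum, Derivation.leibniz, smul_eq_mul, map_add, map_mul,
        hI₅μ _ (hDFI _), zero_mul, add_zero, apply_ite μ₅, map_one, map_zero] at h
      rw [show (if l = a then (1 : A) else 0) = if a = l then 1 else 0 by simp only [eq_comm], h]
      exact Finset.sum_congr rfl fun j _ => rfl
    have hP : ∀ a b, residue A (VanCyc.polarMatrix (fun i j => μ₅ (d i j)) a b) = residue A (μ₅ u) * residue A (Φ b a) := by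
      intro a b
      have e : (fun i j => μ₅ (d i j)) = tri fun i j => μ₅ (d₀ i j) := by funext i j; exact map_tri μ₅.toRingHom d₀ i j
      have h1 : μ₅ (D a (D b G₅)) = μ₅ (d₀ a b) + μ₅ (d₀ b a) := by
        rw [hG5d]
        exact map_pd_pd_quad hZ₅ μ₅ (fun i => by rw [hμ₅]; exact hμZ i) d₀ a b
      have h2' : μ₅ (D a (D b G₅)) = μ₅ u * μ₅ (D a (D b F₅)) + μ₅ (D a (D b u)) * μ₅ F₅ := by
        show μ₅ (D a (D b (u * F₅ - φ₅ Pz))) = _
        rw [map_sub, hD0, sub_zero, Derivation.leibniz, smul_eq_mul, smul_eq_mul, map_add, Derivation.leibniz,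
          Derivation.leibniz, map_add]
        simp only [smul_eq_mul, map_add, map_mul, hI₅μ _ (hDFI _), hI₅μ _ (hDu _), zero_mul, mul_zero, add_zero]
        ring
      rw [e, polarMatrix_tri, ← h1, h2', map_add, map_mul, map_mul, show residue A (μ₅ F₅) = 0 by
        rw [hμ₅, hψμ, hF], mul_zero, add_zero]
      rfl
    have hmat : (VanCyc.polarMatrix fun i j => μ₅ (d i j)).map (residue A) =
        residue A (μ₅ u) • (Φ.map (residue A))ᵀ := by ext a b; exact hP a b
    rw [RingHom.map_det, RingHom.mapMatrix_apply, hmat, Matrix.det_smul, Matrix.det_transpose]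
    refine mul_ne_zero (pow_ne_zero _ hμu) fun h0 => ?_
    have h := congrArg (fun m : Matrix (Fin M) (Fin M) A => residue A m.det) hμW
    simp only [Matrix.det_mul, map_mul, Matrix.det_one, map_one] at h
    rw [show residue A Φ.det = (Φ.map (residue A)).det from RingHom.map_det _ _, h0, mul_zero] at h
    exact zero_ne_one h
  letI : Algebra C C₅ := (φ₅.comp ψ).toAlgebra
  haveI : IsScalarTower A C C₅ := IsScalarTower.of_algebraMap_eq fun r => by
    show _ = φ₅ (ψ (algebraMap A C r))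
    rw [hψA]
    exact IsScalarTower.algebraMap_apply A C₄ C₅ r
  have hE : Algebra.Etale C C₅ := by
    show (φ₅.comp ((algebraMap C₃ C₄).comp ((algebraMap C₂ C₃).comp φ₂))).Etale
    exact RingHom.Etale.stableUnderComposition _ _ (RingHom.Etale.stableUnderComposition _ _
      (RingHom.Etale.stableUnderComposition _ _ (RingHom.etale_algebraMap.2 inferInstance)
        (RingHom.etale_algebraMap.2 inferInstance)) (RingHom.etale_algebraMap.2 inferInstance))
      (RingHom.etale_algebraMap.2 inferInstance)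
  refine ⟨C₅, inferInstance, inferInstance, inferInstance, inferInstance, hE, μ₅, fun c => ?_, Z₅, hZ₅,
    fun i => by rw [hμ₅]; exact hμZ i, u, b, cA, d, (residue_ne_zero_iff_isUnit _).1 hμu,
    (residue_eq_zero_iff _).1 hbA, (residue_eq_zero_iff _).1 hcA, hdet, ?_⟩
  · show residue A (μ₅ (φ₅ (ψ c))) = χ c
    rw [hμ₅, hψμ]
  · have e : VanCyc.quadEval d (fun i => Z₅ i.succ) = G₅ := by rw [quadEval_tri, hG5d]
    rw [e]
    show u * F₅ = Z₅ 0 ^ 2 + algebraMap A C₅ b * Z₅ 0 + algebraMap A C₅ cA + (u * F₅ - φ₅ Pz)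
    simp only [Pz, map_add, map_mul, map_pow, Z₅, φ₅, ← IsScalarTower.algebraMap_apply A C₄ C₅]
    ring

end Groth.Agent.DegQuadH2
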