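import Groth.Agent.QuadFormH2.Presentation
import Groth.Agent.QuadFormH2.Main
import Groth.Agent.DegQuadH2.Split
import Groth.Agent.DegQuadH2.Frozen

/-!
# The degenerate normal form as an étale neighbourhood
-/

set_option autoImplicit false
set_option linter.style.haveILetI false

universe u

open IsLocalRing TensorProduct

namespace Groth.Agent.DegQuadH2

open QuadFormH2

/-- The common strictly essentially étale neighbourhood of the family and of its degenerate normal form. -/
theorem exists_common_nbhd (A : Type u) [CommRing A] [HenselianLocalRing A] (hA : CharP (ResidueField A) 2)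
    (B₀ : Type u) [CommRing B₀] [Algebra A B₀] [Algebra.FinitePresentation A B₀] (P : Ideal B₀) [P.IsMaximal]
    (hP : (maximalIdeal A).map (algebraMap A B₀) ≤ P) (hPi : ∀ y : B₀, ∃ c : A, y - algebraMap A B₀ c ∈ P)
    [Module.Flat A (Localization.AtPrime P)] (m : ℕ)
    (hq : VanCyc.IsOrdQuadPt (VanCyc.fibHom A (Localization.AtPrime P)) (2 * m)) :
    ∃ (a : Fin (2 * m) → Fin (2 * m) → A) (b c : A), VanCyc.QuadNondeg a ∧ b ∈ maximalIdeal A ∧
      ∀ (Q : Ideal (VanCyc.degQuadRing A a b c)) [Q.IsMaximal], VanCyc.sideIdeal A a b c ≤ Q →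
        ∃ (R' : Type u) (_ : CommRing R') (_ : IsLocalRing R')
        (_ : Algebra (Localization.AtPrime P) R') (_ : IsLocalHom (algebraMap (Localization.AtPrime P) R'))
        (_ : Algebra (Localization.AtPrime Q) R') (_ : IsLocalHom (algebraMap (Localization.AtPrime Q) R')),
        EGA4loc.IsStrictlyEssentiallyEtale (Localization.AtPrime P) R' ∧
        EGA4loc.IsStrictlyEssentiallyEtale (Localization.AtPrime Q) R' ∧
          ∀ r : A, algebraMap (Localization.AtPrime P) R' (algebraMap A _ r) =
            algebraMap (Localization.AtPrime Q) R' (algebraMap A _ r) := by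
  classical
  obtain ⟨C, _, _, t, ht, π, F, hπF, hπs, hπker, hgrad, f, Λ, v, hf, hΛF, hv, hπΛ, hJ, -⟩ :=
    exists_presentation_of A B₀ P hP
      (fun y => ⟨0, by obtain ⟨c, hc⟩ := hPi y; exact ⟨c, by simpa using hc⟩⟩) (2 * m) VanCyc.OrdQuadSeries
      (fun _ h => h.1) (fun f hf => by
        by_contra hcon
        push Not at hcon
        have h0 : Pi.single (M := fun _ => AlgebraicClosure (ResidueField A)) (0 : Fin (2 * m + 1)) 1 = 0 :=
          hf.2 _ (by simp [VanCyc.quadEval, hcon]) (by
            rw [show VanCyc.polarMatrix (VanCyc.quadPart f) = 0 by ext i j; simp [VanCyc.polarMatrix, hcon],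
              Matrix.zero_mulVec])
        exact one_ne_zero (α := AlgebraicClosure (ResidueField A)) (by simpa using congrFun h0 0)) hq
  let B := Localization.AtPrime P
  let k := ResidueField A
  let κ := ResidueField B
  haveI hAB : IsLocalHom (algebraMap A B) := ((local_hom_TFAE (algebraMap A B)).out 0 2).2 (by
    rw [IsScalarTower.algebraMap_eq A B₀ B, ← Ideal.map_map, ← Localization.AtPrime.map_eq_maximalIdeal]
    exact Ideal.map_mono hP)
  letI : Algebra k κ := (ResidueField.map (algebraMap A B)).toAlgebra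
  haveI : IsScalarTower A k κ := IsScalarTower.of_algebraMap_eq fun r => rfl
  have hsurj : Function.Surjective (algebraMap k κ) := fun y => by
    obtain ⟨z, hz⟩ := (IsLocalization.AtPrime.equivQuotMaximalIdeal P B).surjective y
    obtain ⟨b₀, rfl⟩ := Ideal.Quotient.mk_surjective z
    obtain ⟨c, hc⟩ := hPi b₀
    have hy : y = residue B (algebraMap B₀ B b₀) := hz ▸ rfl
    refine ⟨residue A c, ?_⟩
    show residue B (algebraMap A B c) = _
    rw [hy, IsScalarTower.algebraMap_apply A B₀ B]
    refine (Ideal.Quotient.eq.2 ?_).symm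
    rw [← map_sub]
    exact (IsLocalization.AtPrime.to_map_mem_maximal_iff B P _).2 hc
  let eκ : k ≃ₐ[A] κ :=
    AlgEquiv.ofBijective (IsScalarTower.toAlgHom A k κ) ⟨(algebraMap k κ).injective, hsurj⟩
  let χκ : C →ₐ[A] κ :=
    { (residue B).comp π.toRingHom with
      commutes' := fun r => by
        show residue B (π (algebraMap A C r)) = _
        rw [π.commutes]
        rfl }
  let χ : C →ₐ[A] k := eκ.symm.toAlgHom.comp χκ
  have hχu : ∀ c, χ c ≠ 0 ↔ IsUnit (π c) := fun c => by
    show eκ.symm (residue B (π c)) ≠ 0 ↔ _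
    rw [ne_eq, EmbeddingLike.map_eq_zero_iff, residue_eq_zero_iff, mem_maximalIdeal, mem_nonunits_iff, not_not]
  have h2 : (2 : k) = 0 := by
    haveI := hA
    exact CharTwo.two_eq_zero
  obtain ⟨C', _, _, _, _, hC', μ, hμχ, Z, hZ, hμZ, u, b, c, d, hu, hb, hc, hd, hid⟩ :=
    exists_split h2 (M := 2 * m) (by omega) ht χ (F := F) (fun i => by by_contra h; exact hgrad i ((hχu _).1 h))
      (by by_contra h; have h1 := (hχu _).1 h; rw [hπF] at h1; exact not_isUnit_zero h1) Λ hf hΛF hv
      (fun c => (hχu c).trans (hπΛ c)) hJ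
  obtain ⟨E₁, _, _, _, _, hE₁, ε₁, hε₁, y₁, hy₁, hεy₁, hy₁0, hQy₁⟩ := exists_frozen_split hZ μ hμZ d hd
  obtain ⟨E, _, _, _, _, _⟩ := exists_away A (C := E₁) (algebraMap C' E₁ u)
  have huE : IsUnit (ε₁ (algebraMap C' E₁ u)) := by rw [hε₁]; exact hu
  let ε : E →ₐ[A] A := IsLocalization.Away.liftAlgHom (S := E) (algebraMap C' E₁ u) (f := ε₁) huE
  have hε : ∀ z, ε (algebraMap E₁ E z) = ε₁ z := fun z =>
    IsLocalization.Away.lift_eq (g := ε₁.toRingHom) (algebraMap C' E₁ u) huE z
  let y : Fin (2 * m + 1) → E := fun i => algebraMap E₁ E (y₁ i)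
  haveI : Algebra.Etale E₁ E := Algebra.Etale.of_isLocalizationAway (algebraMap C' E₁ u)
  have hy : IsFrame A y := hy₁.map
  have hεy : ∀ i, ε (y i) = 0 := fun i => (hε _).trans (hεy₁ i)
  let a : Fin (2 * m) → Fin (2 * m) → A := fun i j => μ (d i j)
  refine ⟨a, b, c, hd, hb, ?_⟩
  intro Q _ hQ
  -- the neighbourhood
  letI : Algebra C E := ((algebraMap E₁ E).comp ((algebraMap C' E₁).comp (algebraMap C C'))).toAlgebra
  haveI : IsScalarTower A C E := IsScalarTower.of_algebraMap_eq fun r => by
    show _ = algebraMap E₁ E (algebraMap C' E₁ (algebraMap C C' (algebraMap A C r)))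
    rw [← IsScalarTower.algebraMap_apply A C C', ← IsScalarTower.algebraMap_apply A C' E₁,
      ← IsScalarTower.algebraMap_apply A E₁ E]
  haveI := hC'
  haveI := hE₁
  haveI : Algebra.Etale C E :=
    RingHom.Etale.stableUnderComposition _ _ (RingHom.Etale.stableUnderComposition _ _
      (RingHom.etale_algebraMap.2 inferInstance) (RingHom.etale_algebraMap.2 inferInstance))
      (RingHom.etale_algebraMap.2 inferInstance)
  let FE : E := algebraMap C E F
  have hεC : ∀ z, residue A (ε (algebraMap C E z)) = χ z := fun z => by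
    show residue A (ε (algebraMap E₁ E (algebraMap C' E₁ (algebraMap C C' z)))) = χ z
    rw [hε, hε₁, hμχ]
  have hεFE : residue A (ε FE) = 0 := by
    rw [hεC]
    by_contra h
    have h1 := (hχu _).1 h
    rw [hπF] at h1
    exact not_isUnit_zero h1
  let G : MvPolynomial (Fin (2 * m + 1)) A := VanCyc.degQuadPoly A a b c
  let gy : MvPolynomial (Fin (2 * m + 1)) A →+* E := (MvPolynomial.aeval (R := A) y).toRingHom
  have hgyG : gy G = algebraMap E₁ E (algebraMap C' E₁ u) * FE := by
    show MvPolynomial.aeval y (VanCyc.degQuadPoly A a b c) = _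
    rw [show algebraMap E₁ E (algebraMap C' E₁ u) * FE = algebraMap E₁ E (algebraMap C' E₁ (u * algebraMap C C' F))
      from by rw [map_mul, map_mul]; rfl, hid]
    have hq' : MvPolynomial.aeval y (MvPolynomial.rename Fin.succ (VanCyc.quadPoly a)) =
        algebraMap E₁ E (algebraMap C' E₁ (VanCyc.quadEval d fun i => Z i.succ)) := by
      rw [← hQy₁, MvPolynomial.aeval_rename, quadPoly_aeval, map_quadEval']
      simp only [← IsScalarTower.algebraMap_apply]
      rfl
    simp only [VanCyc.degQuadPoly, map_add, map_mul, map_pow, MvPolynomial.aeval_X, MvPolynomial.aeval_C, hq', y,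
      hy₁0, ← IsScalarTower.algebraMap_apply]
  let J : Ideal E := (Ideal.span {G}).map gy
  have hJ : J = Ideal.span {FE} := by
    show (Ideal.span {G}).map gy = _
    rw [Ideal.map_span, Set.image_singleton, hgyG,
      Ideal.span_singleton_mul_left_unit (IsLocalization.Away.algebraMap_isUnit (algebraMap C' E₁ u))]
  have hJC : (Ideal.span {F}).map (algebraMap C E) = J := by
    rw [hJ, Ideal.map_span, Set.image_singleton]
  let Eb := E ⧸ J
  let εk : Eb →ₐ[A] k := Ideal.Quotient.liftₐ J ((Ideal.Quotient.mkₐ A (maximalIdeal A)).comp ε) fun z hz => by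
    rw [hJ] at hz
    obtain ⟨v, rfl⟩ := Ideal.mem_span_singleton'.1 hz
    show Ideal.Quotient.mk (maximalIdeal A) (ε (v * FE)) = 0
    rw [map_mul, map_mul, show Ideal.Quotient.mk (maximalIdeal A) (ε FE) = 0 from hεFE, mul_zero]
  have hεk : ∀ e : E, εk (Ideal.Quotient.mk J e) = residue A (ε e) := fun e => rfl
  let q : Ideal Eb := RingHom.ker εk.toRingHom
  haveI hqp : q.IsPrime := RingHom.ker_isPrime _
  let R' := Localization.AtPrime q
  -- the model side
  let gM : VanCyc.degQuadRing A a b c →+* Eb := Ideal.quotientMap J gy Ideal.le_comap_map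
  letI algM : Algebra (VanCyc.degQuadRing A a b c) Eb := gM.toAlgebra
  haveI : Algebra.Etale (VanCyc.degQuadRing A a b c) Eb := etale_quotientMap hy (Ideal.span {G})
  have hεgy : ∀ p, ε (gy p) = MvPolynomial.aeval (fun _ => (0 : A)) p := fun p => by
    show ε (MvPolynomial.aeval y p) = _
    rw [MvPolynomial.comp_aeval_apply, show (fun i => ε (y i)) = fun _ => (0 : A) from funext hεy]
  have hM : q.comap gM = Q := by
    have hmQ : ∀ r ∈ maximalIdeal A, Ideal.Quotient.mk _ (MvPolynomial.C r) ∈ Q := fun r hr =>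
      hQ (Ideal.mem_map_of_mem _ (Ideal.mem_sup_left (Ideal.mem_map_of_mem _ hr)))
    have hsQ : ∀ i : Fin (2 * m), Ideal.Quotient.mk _ (MvPolynomial.X i.succ) ∈ Q := fun i =>
      hQ (Ideal.mem_map_of_mem _ (Ideal.mem_sup_right (Ideal.subset_span ⟨i, rfl⟩)))
    have hX0 : Ideal.Quotient.mk (Ideal.span {G}) (MvPolynomial.X 0) ∈ Q := by
      refine Ideal.IsPrime.mem_of_pow_mem inferInstance 2 ?_
      have e : Ideal.Quotient.mk (Ideal.span {G}) (MvPolynomial.X 0) ^ 2 = -(Ideal.Quotient.mk _ (MvPolynomial.C b) *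
          Ideal.Quotient.mk _ (MvPolynomial.X 0) + Ideal.Quotient.mk _ (MvPolynomial.C c) +
          Ideal.Quotient.mk _ (MvPolynomial.rename Fin.succ (VanCyc.quadPoly a))) := by
        rw [eq_neg_iff_add_eq_zero, ← map_pow, ← map_mul, ← map_add, ← map_add, ← map_add, ← add_assoc, ← add_assoc]
        exact Ideal.Quotient.eq_zero_iff_mem.2 (Ideal.mem_span_singleton_self G)
      rw [e]
      refine neg_mem (add_mem (add_mem (Ideal.mul_mem_right _ _ (hmQ b hb)) (hmQ c hc)) ?_)
      simp only [VanCyc.quadPoly, map_sum, apply_ite (MvPolynomial.rename Fin.succ),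
        apply_ite (Ideal.Quotient.mk (Ideal.span {G})), map_mul, MvPolynomial.rename_X, map_zero]
      refine Ideal.sum_mem _ fun i _ => Ideal.sum_mem _ fun j _ => ?_
      split_ifs
      · exact Ideal.mul_mem_left _ _ (hsQ j)
      · exact zero_mem _
    have hXQ : ∀ i, Ideal.Quotient.mk (Ideal.span {G}) (MvPolynomial.X i) ∈ Q := Fin.cases hX0 hsQ
    have key : ∀ p : MvPolynomial (Fin (2 * m + 1)) A,
        Ideal.Quotient.mk (Ideal.span {G}) (p - MvPolynomial.C (MvPolynomial.aeval (fun _ => (0 : A)) p)) ∈ Q :=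
      fun p => by
      induction p using MvPolynomial.induction_on with
      | C r => simp
      | add q q' hq hq' => rw [map_add, map_add, add_sub_add_comm, map_add]; exact add_mem hq hq'
      | mul_X q i hq =>
        simp only [map_mul, MvPolynomial.aeval_X, mul_zero, map_zero, sub_zero]
        exact Ideal.mul_mem_left _ _ (hXQ i)
    ext z
    obtain ⟨p, rfl⟩ := Ideal.Quotient.mk_surjective z
    show residue A (ε (gy p)) = 0 ↔ _
    rw [hεgy, residue_eq_zero_iff]
    constructor
    · intro hp
      have := add_mem (key p) (hmQ _ hp)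
      rwa [← map_add, sub_add_cancel] at this
    · intro hp
      by_contra h
      have h1 := sub_mem hp (key p)
      rw [← map_sub, sub_sub_cancel] at h1
      obtain ⟨r, hr⟩ := ((not_not.1 fun h' => h ((mem_maximalIdeal _).2 h')) : IsUnit _)
      exact (inferInstance : Q.IsPrime).ne_top (Ideal.eq_top_of_isUnit_mem _ h1
        ((hr ▸ r.isUnit.map MvPolynomial.C).map _))
  letI algMR : Algebra (Localization.AtPrime Q) R' :=
    (Localization.localRingHom Q q gM hM.symm).toAlgebra
  haveI hlocM : IsLocalHom (algebraMap (Localization.AtPrime Q) R') :=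
    Localization.isLocalHom_localRingHom _ q gM hM.symm
  have hgMA : ∀ r : A, gM (algebraMap A _ r) = algebraMap A Eb r := fun r => by
    show Ideal.Quotient.mk J (gy (MvPolynomial.C r)) = Ideal.Quotient.mk J (algebraMap A E r)
    exact congrArg _ (MvPolynomial.aeval_C y r)
  haveI : IsScalarTower (VanCyc.degQuadRing A a b c) (Localization.AtPrime Q) R' :=
    IsScalarTower.of_algebraMap_eq fun z => (Localization.localRingHom_to_map _ q gM hM.symm z).symm
  have hresq : ∀ e : Eb, ∀ r : A, residue A r = εk e → algebraMap A Eb r - e ∈ q := fun e r hr => by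
    show εk (algebraMap A Eb r - e) = 0
    rw [map_sub, εk.commutes, ← hr]
    exact sub_self _
  have hsM : EGA4loc.IsStrictlyEssentiallyEtale (Localization.AtPrime Q) R' :=
    strict_of_etale Q _ q hM fun e => by
      obtain ⟨r, hr⟩ := residue_surjective (εk e)
      refine ⟨algebraMap A _ r, 1, (Ideal.ne_top_iff_one _).1 (inferInstance : Q.IsPrime).ne_top, ?_⟩
      rw [map_one, one_mul, ← neg_sub]
      exact neg_mem (by rw [show algebraMap (VanCyc.degQuadRing A a b c) Eb (algebraMap A _ r) = algebraMap A Eb r from hgMA r]; exact hresq e r hr)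
  -- the side of the family
  let Cb := C ⧸ Ideal.span {F}
  let gC : Cb →+* Eb :=
    (Ideal.quotEquivOfEq hJC).toRingHom.comp (Ideal.quotientMap _ (algebraMap C E) Ideal.le_comap_map)
  have hgC : gC.Etale := RingHom.Etale.stableUnderComposition _ _
    (etale_quotientMap (RingHom.etale_algebraMap.2 inferInstance) _)
    (RingHom.Etale.of_bijective (Ideal.quotEquivOfEq hJC).bijective)
  have hgCe : ∀ c, gC (Ideal.Quotient.mk _ c) = Ideal.Quotient.mk J (algebraMap C E c) := fun c => rfl
  letI algC : Algebra Cb Eb := gC.toAlgebra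
  haveI : Algebra.Etale Cb Eb := hgC
  let πb : Cb →ₐ[A] B := Ideal.Quotient.liftₐ _ π fun z hz => by
    obtain ⟨v, rfl⟩ := Ideal.mem_span_singleton'.1 hz
    rw [map_mul, hπF, mul_zero]
  let p : Ideal Cb := q.comap gC
  haveI hpp : p.IsPrime := Ideal.IsPrime.comap _
  have hp : ∀ c, Ideal.Quotient.mk _ c ∉ p ↔ IsUnit (π c) := fun c => by
    show ¬ residue A (ε (algebraMap C E c)) = 0 ↔ _
    rw [hεC, ← hχu]
  letI algB : Algebra Cb B := πb.toRingHom.toAlgebra
  haveI : IsLocalization.AtPrime B p :=
    { map_units := fun s => by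
        obtain ⟨s, hs⟩ := s
        obtain ⟨c, rfl⟩ := Ideal.Quotient.mk_surjective s
        exact (hp c).1 hs
      surj := fun z => by
        obtain ⟨c, s, hs, hz⟩ := hπs z
        refine ⟨⟨Ideal.Quotient.mk _ c, ⟨Ideal.Quotient.mk _ s, (hp s).2 hs⟩⟩, ?_⟩
        show z * π s = π c
        rw [mul_comm, hz]
      exists_of_eq := fun {z z'} hz => by
        obtain ⟨c, rfl⟩ := Ideal.Quotient.mk_surjective z
        obtain ⟨c', rfl⟩ := Ideal.Quotient.mk_surjective z'
        obtain ⟨s, v, hs, hsv⟩ := hπker (c - c') (by rw [map_sub]; exact sub_eq_zero.2 hz)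
        refine ⟨⟨Ideal.Quotient.mk _ s, (hp s).2 hs⟩, ?_⟩
        show Ideal.Quotient.mk _ s * Ideal.Quotient.mk _ c = Ideal.Quotient.mk _ s * Ideal.Quotient.mk _ c'
        rw [← map_mul, ← map_mul, Ideal.Quotient.eq, ← mul_sub, hsv]
        exact Ideal.mul_mem_left _ _ (Ideal.mem_span_singleton_self F) }
  have huB : ∀ s : p.primeCompl, IsUnit (((algebraMap Eb R').comp gC) s) := fun s =>
    IsLocalization.map_units R' (⟨gC (s : Cb), s.2⟩ : q.primeCompl)
  let ψB : B →+* R' := IsLocalization.lift (M := p.primeCompl) huB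
  have hψB : ∀ z : Cb, ψB (algebraMap Cb B z) = algebraMap Eb R' (gC z) := fun z => IsLocalization.lift_eq _ z
  letI algBR : Algebra B R' := ψB.toAlgebra
  haveI : IsScalarTower Cb B R' := IsScalarTower.of_algebraMap_eq fun z => (hψB z).symm
  haveI hlocB : IsLocalHom (algebraMap B R') := by
    refine ⟨fun z hz => ?_⟩
    obtain ⟨c, s, rfl⟩ := IsLocalization.exists_mk'_eq p.primeCompl z
    have h1 : IsUnit (ψB (IsLocalization.mk' B c s) * ψB (algebraMap Cb B (s : Cb))) :=
      hz.mul ((IsLocalization.map_units B s).map ψB)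
    rw [← map_mul, IsLocalization.mk'_spec, hψB] at h1
    have hc : c ∈ p.primeCompl := fun hc =>
      (mem_maximalIdeal _).1 ((IsLocalization.AtPrime.to_map_mem_maximal_iff R' q _).2 hc) h1
    have hu := IsLocalization.map_units B (⟨c, hc⟩ : p.primeCompl)
    rw [← IsLocalization.mk'_spec B c s] at hu
    exact isUnit_of_mul_isUnit_left hu
  have hgCA : ∀ r : A, gC (algebraMap A Cb r) = algebraMap A Eb r := fun r => by
    show Ideal.Quotient.mk J (algebraMap C E (algebraMap A C r)) = Ideal.Quotient.mk J (algebraMap A E r)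
    rw [← IsScalarTower.algebraMap_apply]
  have hsB : EGA4loc.IsStrictlyEssentiallyEtale B R' := strict_of_etale p B q rfl fun e => by
    obtain ⟨r, hr⟩ := residue_surjective (εk e)
    refine ⟨algebraMap A Cb r, 1, (Ideal.ne_top_iff_one _).1 hpp.ne_top, ?_⟩
    rw [map_one, one_mul, ← neg_sub]
    exact neg_mem (by rw [show algebraMap Cb Eb (algebraMap A Cb r) = algebraMap A Eb r from hgCA r]; exact hresq e r hr)
  refine ⟨R', inferInstance, inferInstance, algBR, hlocB, algMR, hlocM, hsB, hsM, fun r => ?_⟩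
  rw [show algebraMap A B r = algebraMap Cb B (algebraMap A Cb r) from (πb.commutes r).symm,
    IsScalarTower.algebraMap_apply A (VanCyc.degQuadRing A a b c) (Localization.AtPrime Q) r]
  show ψB _ = Localization.localRingHom _ q gM hM.symm _
  rw [hψB, Localization.localRingHom_to_map, hgMA, hgCA]

end Groth.Agent.DegQuadH2
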